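import Groth.Agent.Curves.K325.NodeInter
import Groth.Agent.Divis.CartierStalk
import Groth.Agent.Sga3B.DimOneTop

/-!
# Two reduced closed subschemes without common component of a nodal curve meet in a reduced scheme
-/

set_option autoImplicit false

universe u

open CategoryTheory CategoryTheory.Limits AlgebraicGeometry TopologicalSpace IsLocalRing

namespace K325.NodeInterSch

open Groth.Agent Groth.Agent.Divis.CartierBasic Groth.Agent.Divis.CartierStalk

/-- Points of a reduced scheme of dimension at most one are closed or have a field as local ring. -/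
theorem isClosed_or_isField {X : Scheme.{u}} (hdim : topologicalKrullDim X ≤ 1) (x : X)
    [_root_.IsReduced (X.presheaf.stalk x)] :
    IsClosed ({x} : Set X) ∨ IsField (X.presheaf.stalk x) := by
  by_cases hx : IsClosed ({x} : Set X)
  · exact Or.inl hx
  right
  obtain ⟨z, hz, hzx⟩ : ∃ z, x ⤳ z ∧ z ≠ x := by
    by_contra hcon
    push Not at hcon
    apply hx
    have : closure {x} = ({x} : Set X) := by
      ext z
      rw [← specializes_iff_mem_closure, Set.mem_singleton_iff]
      exact ⟨hcon z, fun h => h ▸ specializes_rfl⟩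
    rw [← this]
    exact isClosed_closure
  have hgen : ∀ y : X, y ⤳ x → y = x := by
    intro y hy
    by_contra hne
    exact hzx (Sga3B.DimOneTop.eq_of_specializes_of_dim_le_one hdim hy hne hz).symm
  rw [IsLocalRing.isField_iff_maximalIdeal_eq, eq_bot_iff]
  intro a ha
  have h2 : a ∈ nilradical (X.presheaf.stalk x) := by
    rw [nilradical_eq_sInf, Ideal.mem_sInf]
    intro q (hq : q.IsPrime)
    let Q : Spec (X.presheaf.stalk x) := ⟨q, hq⟩
    have h3 : X.fromSpecStalk x Q ⤳ x := by
      have h4 : X.fromSpecStalk x Q ∈ Set.range (X.fromSpecStalk x) := ⟨Q, rfl⟩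
      rw [Scheme.range_fromSpecStalk] at h4
      exact h4
    have h5 : X.fromSpecStalk x Q = X.fromSpecStalk x (IsLocalRing.closedPoint (X.presheaf.stalk x)) := by
      rw [hgen _ h3, Scheme.fromSpecStalk_closedPoint]
    have h6 : Q = IsLocalRing.closedPoint (X.presheaf.stalk x) :=
      (X.fromSpecStalk x).isEmbedding.injective h5
    have h7 : q = maximalIdeal (X.presheaf.stalk x) := congrArg PrimeSpectrum.asIdeal h6
    rw [h7]
    exact ha
  rwa [nilradical_eq_zero] at h2

theorem isRadical_stalkIdeal {X : Scheme.{u}} (I : X.IdealSheafData) [IsReduced I.subscheme] (x : X) :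
    (stalkIdeal I x).IsRadical := by
  by_cases hx : x ∈ I.support
  · obtain ⟨d, rfl⟩ : ∃ d : I.subscheme, I.subschemeι d = x := by
      have h1 : x ∈ Set.range I.subschemeι := by
        rw [Scheme.IdealSheafData.range_subschemeι]
        exact hx
      exact h1
    rw [← ker_stalkMap_subschemeι]
    rw [RingHom.ker_eq_comap_bot]
    apply Ideal.IsRadical.comap
    have : _root_.IsReduced (I.subscheme.presheaf.stalk d) := inferInstance
    rw [← Ideal.zero_eq_bot, ← nilradical_eq_zero (R := I.subscheme.presheaf.stalk d)]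
    exact Ideal.radical_isRadical _
  · rw [notMem_support_iff_stalkIdeal_eq_top] at hx
    rw [hx]
    intro a _
    trivial

/-- If the stalk of the ideal at `x` vanishes then the closed subset contains a neighbourhood of `x`. -/
theorem notMem_closure_of_stalkIdeal_eq_bot {X : Scheme.{u}} [IsLocallyNoetherian X] (I : X.IdealSheafData)
    (x : X) (h : stalkIdeal I x = ⊥) : x ∉ closure ((I.support : Set X)ᶜ) := by
  obtain ⟨U, hxU⟩ := exists_affine x
  have hN : IsNoetherianRing Γ(X, U.1) := IsLocallyNoetherian.component_noetherian U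
  obtain ⟨s, hs⟩ := (IsNoetherian.noetherian (I.ideal U) : (I.ideal U).FG)
  rw [stalkIdeal_eq I U hxU] at h
  -- each generator vanishes near `x`
  have h1 : ∀ f ∈ s, ∃ W : X.Opens, x ∈ W ∧ ∃ hW : W ≤ U.1, X.presheaf.map (homOfLE hW).op f = 0 := by
    intro f hf
    have h2 : X.presheaf.germ U.1 x hxU f = X.presheaf.germ U.1 x hxU 0 := by
      rw [map_zero]
      have h3 : X.presheaf.germ U.1 x hxU f ∈ (I.ideal U).map (X.presheaf.germ U.1 x hxU).hom := by
        apply Ideal.mem_map_of_mem
        rw [← hs]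
        exact Ideal.subset_span hf
      rw [h] at h3
      exact h3
    obtain ⟨W, hxW, iU, iV, hW⟩ := X.presheaf.germ_eq x hxU hxU _ _ h2
    refine ⟨W, hxW, iU.le, ?_⟩
    rw [map_zero] at hW
    exact hW
  choose! W hxW hWU hW0 using h1
  -- a common affine neighbourhood
  have h2 : ∃ V : X.affineOpens, x ∈ V.1 ∧ V.1 ≤ U.1 ∧ ∀ f ∈ s, V.1 ≤ W f := by
    have h3 : IsOpen (((U.1 : Set X)) ∩ ⋂ f ∈ s, (W f : Set X)) :=
      U.1.2.inter (isOpen_biInter_finset fun f _ => (W f).2)
    obtain ⟨V, hV1, hV2⟩ := exists_affine_le (x := x) (⟨_, h3⟩ : X.Opens) (⟨_, h3⟩ : X.Opens)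
      ⟨hxU, Set.mem_iInter₂.2 fun f hf => hxW f hf⟩ ⟨hxU, Set.mem_iInter₂.2 fun f hf => hxW f hf⟩
    exact ⟨V, hV1, fun y hy => (hV2.1 hy).1, fun f hf y hy => Set.mem_iInter₂.1 (hV2.1 hy).2 f hf⟩
  obtain ⟨V, hxV, hVU, hVW⟩ := h2
  have h3 : ∀ y ∈ V.1, stalkIdeal I y = ⊥ := by
    intro y hy
    rw [stalkIdeal_eq I U (hVU hy), ← hs, Ideal.map_span, eq_bot_iff, Ideal.span_le]
    rintro _ ⟨f, hf, rfl⟩
    have h4 : X.presheaf.germ U.1 y (hVU hy) f =
        X.presheaf.germ (W f) y (hVW f hf hy) (X.presheaf.map (homOfLE (hWU f hf)).op f) :=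
      (X.presheaf.germ_res_apply (homOfLE (hWU f hf)) y (hVW f hf hy) f).symm
    change X.presheaf.germ U.1 y (hVU hy) f = 0
    rw [h4, hW0 f hf, map_zero]
  intro hcl
  obtain ⟨y, hyV, hy⟩ := mem_closure_iff.1 hcl V.1 V.1.2 hxV
  apply hy
  change y ∈ I.support
  rw [mem_support_iff_stalkIdeal_le, h3 y hyV]
  exact bot_le

section Nodal

variable (k : Type u) [Field k] {X : Scheme.{u}} [X.Over (Spec (CommRingCat.of k))]
  [LocallyOfFiniteType (X ↘ Spec (CommRingCat.of k))]

/-- The transversality at a point. -/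
theorem stalkIdeal_sup_eq (hX : Curv2.AtWorstNodal k X) (hdim : topologicalKrullDim X ≤ 1)
    {J K : X.IdealSheafData} [IsReduced J.subscheme] [IsReduced K.subscheme] (x : X)
    (hmul : ∀ a ∈ stalkIdeal J x, ∀ b ∈ stalkIdeal K x, a * b = 0)
    (hxJ : x ∈ J.support) (hxK : x ∈ K.support) (hJ0 : stalkIdeal J x ≠ ⊥) (hK0 : stalkIdeal K x ≠ ⊥) :
    stalkIdeal (J ⊔ K) x = maximalIdeal (X.presheaf.stalk x) := by
  have hN : IsLocallyNoetherian X := LocallyOfFiniteType.isLocallyNoetherian (X ↘ Spec (CommRingCat.of k))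
  have hred := CurvesC.NodalLen.isReduced_stalk k hX x
  have hJm := (mem_support_iff_stalkIdeal_le J x).1 hxJ
  have hKm := (mem_support_iff_stalkIdeal_le K x).1 hxK
  have hx : IsClosed ({x} : Set X) := by
    refine (isClosed_or_isField hdim x).resolve_right fun hf => hJ0 ?_
    rw [IsLocalRing.isField_iff_maximalIdeal_eq.1 hf] at hJm
    exact le_bot_iff.1 hJm
  rw [stalkIdeal_sup]
  rcases hX x hx with h | h
  · exfalso
    have hreg := CurvesB.NodeSch2.isRegularLocalRing_of_exists k x h
    have hD : IsDomain (X.presheaf.stalk x) := S0558.result _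
    obtain ⟨a, ha, ha0⟩ := Submodule.exists_mem_ne_zero_of_ne_bot hJ0
    obtain ⟨b, hb, hb0⟩ := Submodule.exists_mem_ne_zero_of_ne_bot hK0
    exact (mul_ne_zero ha0 hb0) (hmul a ha b hb)
  · exact K325.NodeInter.sup_eq ((CurvesB.Node.isNode_iff k X x).1 h).2 (isRadical_stalkIdeal J x) hJ0
      (isRadical_stalkIdeal K x) hK0 hJm hKm hmul

/-- If the stalks of an ideal sheaf at the points of its support are the maximal ideals, then the
subscheme is reduced. -/
theorem isReduced_of_stalkIdeal {X : Scheme.{u}} (T : X.IdealSheafData)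
    (h : ∀ x ∈ T.support, stalkIdeal T x = maximalIdeal (X.presheaf.stalk x)) : IsReduced T.subscheme := by
  have key : ∀ d : T.subscheme, _root_.IsReduced (T.subscheme.presheaf.stalk d) := by
    intro d
    have h1 : T.subschemeι d ∈ T.support := by
      have h2 : T.subschemeι d ∈ Set.range T.subschemeι := ⟨d, rfl⟩
      rw [Scheme.IdealSheafData.range_subschemeι] at h2
      exact h2
    have h3 := h _ h1
    have h4 : IsField (X.presheaf.stalk (T.subschemeι d) ⧸ stalkIdeal T (T.subschemeι d)) := by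
      rw [h3, ← Ideal.Quotient.maximal_ideal_iff_isField_quotient]
      infer_instance
    have h5 : IsField (T.subscheme.presheaf.stalk d) :=
      MulEquiv.isField h4 (stalkQuotEquiv T d).symm.toMulEquiv
    have := h5.isDomain
    infer_instance
  exact isReduced_of_isReduced_stalk _

end Nodal

end K325.NodeInterSch
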