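import Groth.Agent.CohqA.MV
import Groth.Agent.Dix.IdealModSec
import Groth.Agent.CohqA.HOpen
import Groth.Agent.CohqA.AffineVanish
import Groth.Agent.VarietyB.AffineDimOne
import Groth.Agent.VarietyB.DimSch
import Groth.Agent.VarietyB.HHPush
import Groth.Agent.VarietyB.ProjForm
import Groth.Agent.CurvesC.SESLocal
import Groth.Agent.Ega3B.RpushAff
import Groth.Agent.S0927
import Groth.Agent.Dcoh.DerSch
import Groth.Agent.PerfC.PullRestrict
import Groth.Agent.PerfA.CohSerre
import Groth.Agent.Flat2F.HHSeq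
import Groth.Agent.Sga67.RegResol
import Groth.Agent.S0458

/-!
# Contractions of curves: cohomology of pullbacks

`π : X' ⟶ X` an isomorphism over the complement of a closed point `p`.
-/

set_option autoImplicit false

universe u

open CategoryTheory CategoryTheory.Limits AlgebraicGeometry TopologicalSpace Opposite

namespace K325.Contract

open Groth.Agent Groth.Agent.Ega1.SubSheaf Groth.Agent.CurvesC.HomRel

theorem isAffineOpen_preimage {X' X : Scheme.{u}} (π : X' ⟶ X) (W : X.Opens) [IsIso (π ∣_ W)] {V : X.Opens}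
    (hV : IsAffineOpen V) (hVW : V ≤ W) : IsAffineOpen (π ⁻¹ᵁ V) := by
  have h1 : W.ι ''ᵁ (W.ι ⁻¹ᵁ V) = V := by
    rw [Scheme.Hom.image_preimage_eq_opensRange_inf, Scheme.Opens.opensRange_ι, inf_eq_right.2 hVW]
  have h2 : IsAffineOpen (W.ι ⁻¹ᵁ V) := by
    rw [← Scheme.Hom.isAffineOpen_iff_of_isOpenImmersion W.ι, h1]
    exact hV
  have h3 : IsAffineOpen ((π ∣_ W) ⁻¹ᵁ (W.ι ⁻¹ᵁ V)) := h2.preimage (π ∣_ W)
  have h4 := h3.image_of_isOpenImmersion (π ⁻¹ᵁ W).ι
  rwa [image_morphismRestrict_preimage, h1] at h4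

theorem ringKrullDim_stalk_le (X : Scheme.{u}) (x : X) :
    ringKrullDim (X.presheaf.stalk x) ≤ topologicalKrullDim X := by
  obtain ⟨V, hV, hx, -⟩ := exists_isAffineOpen_mem_and_subset (X := X) (x := x) (U := ⊤) trivial
  let := TopCat.Presheaf.algebra_section_stalk X.presheaf (⟨x, hx⟩ : V)
  have hloc : IsLocalization.AtPrime (X.presheaf.stalk x) (hV.primeIdealOf ⟨x, hx⟩).asIdeal :=
    hV.isLocalization_stalk ⟨x, hx⟩
  rw [IsLocalization.AtPrime.ringKrullDim_eq_height (hV.primeIdealOf ⟨x, hx⟩).asIdeal]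
  refine (Ideal.height_le_ringKrullDim_of_ne_top (hV.primeIdealOf ⟨x, hx⟩).2.ne_top).trans ?_
  rw [← VarietyB.DimSch.topologicalKrullDim_affineOpen hV]
  exact topologicalKrullDim_subspace_le _ _

/-- The intersection of an affine open of a curve with any open is affine. -/
theorem isAffineOpen_inf {X : Scheme.{u}} [IsLocallyNoetherian X] (hdim : topologicalKrullDim X ≤ 1)
    {V : X.Opens} (hV : IsAffineOpen V) (W : X.Opens) : IsAffineOpen (V ⊓ W) := by
  have : IsAffineHom W.ι := VarietyB.AffineDimOne.isAffineHom_ι X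
    (fun x => ⟨inferInstance, (ringKrullDim_stalk_le X x).trans hdim⟩) W
  have h1 := (hV.preimage W.ι).image_of_isOpenImmersion W.ι
  rwa [Scheme.Hom.image_preimage_eq_opensRange_inf, Scheme.Opens.opensRange_ι, inf_comm] at h1

section

variable {X' X : Scheme.{u}} (π : X' ⟶ X) {p : X} (hp : IsClosed ({p} : Set X))
  [hiso : IsIso (π ∣_ (⟨({p} : Set X)ᶜ, hp.isOpen_compl⟩ : X.Opens))]

include hiso in
theorem subsingleton_HU [IsLocallyNoetherian X] (hdim : topologicalKrullDim X ≤ 1)
    (hg' : Subsingleton (Coh.HH X' (Coh.structureModule X') 1)) {V : X.Opens} (hV : IsAffineOpen V) :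
    Subsingleton (CohTop.HU (X := X'.toTopCat) (Coh.toAb (Coh.structureModule X')) 1 (π ⁻¹ᵁ V)) := by
  have hq : (Coh.structureModule X').IsQuasicoherent := PerfA.QCohSerre.isQCoh_unit X'
  by_cases hpV : p ∈ V
  · let W : X.Opens := ⟨({p} : Set X)ᶜ, hp.isOpen_compl⟩
    have hVW : IsAffineOpen (V ⊓ W) := isAffineOpen_inf hdim hV W
    have hI : IsAffineOpen (π ⁻¹ᵁ (V ⊓ W)) := isAffineOpen_preimage π W hVW inf_le_right
    have h0 : Subsingleton (CohTop.HU (X := X'.toTopCat) (Coh.toAb (Coh.structureModule X')) 1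
        ((π ⁻¹ᵁ V) ⊓ (π ⁻¹ᵁ W))) :=
      CohqA.AffineVanish.HU_subsingleton _ 1 Nat.one_pos _ hI
    have htop : (π ⁻¹ᵁ V) ⊔ (π ⁻¹ᵁ W) = ⊤ := by
      rw [eq_top_iff]
      intro x _
      by_cases hx : π x = p
      · left
        change π x ∈ V
        rw [hx]
        exact hpV
      · right
        exact hx
    have h1 : Subsingleton (CohTop.HU (X := X'.toTopCat) (Coh.toAb (Coh.structureModule X')) 1
        ((π ⁻¹ᵁ V) ⊔ (π ⁻¹ᵁ W))) := by
      rw [htop]
      exact (CohqA.HOpen.HHTopEquiv (Coh.structureModule X') 1).symm.toEquiv.subsingleton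
    refine subsingleton_of_forall_eq 0 fun x => ?_
    obtain ⟨c, hc, -⟩ := CohqA.MV.exists_glue (X := X'.toTopCat) (Coh.toAb (Coh.structureModule X'))
      (π ⁻¹ᵁ V) (π ⁻¹ᵁ W) 1 x 0 (Subsingleton.elim _ _)
    rw [← hc, Subsingleton.elim c 0]
    exact map_zero _
  · exact CohqA.AffineVanish.HU_subsingleton _ 1 Nat.one_pos _
      (isAffineOpen_preimage π (⟨({p} : Set X)ᶜ, hp.isOpen_compl⟩ : X.Opens) hV fun x hx hxp =>
        hpV (by rw [← show x = p from hxp]; exact hx))

omit hp hiso in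
theorem isIso_app (W : X.Opens) [IsIso (π ∣_ W)] {V : X.Opens} (hV : V ≤ W) : IsIso (π.app V) := by
  have key : ∀ V' : W.toScheme.Opens, IsIso (π.app (W.ι ''ᵁ V')) := by
    intro V'
    have h1 : IsIso ((π ∣_ W).app V') := inferInstance
    have h2 : IsIso (π.app (W.ι ''ᵁ V') ≫ X'.presheaf.map (eqToHom (image_morphismRestrict_preimage π W V')).op) :=
      morphismRestrict_app π W V' ▸ h1
    exact @IsIso.of_isIso_comp_right _ _ _ _ _ _ _ inferInstance h2
  have h1 : W.ι ''ᵁ (W.ι ⁻¹ᵁ V) = V := by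
    rw [Scheme.Hom.image_preimage_eq_opensRange_inf, Scheme.Opens.opensRange_ι, inf_eq_right.2 hV]
  rw [← h1]
  exact key _

omit hp hiso in
theorem exists_apply_eq (W : X.Opens) [IsIso (π ∣_ W)] {y : X} (hy : y ∈ W) : ∃ y' : X', π y' = y := by
  obtain ⟨z, hz⟩ := (π ∣_ W).surjective ⟨y, hy⟩
  refine ⟨z.1, ?_⟩
  rw [← morphismRestrict_base_coe π W z, hz]

omit hiso in
include hp in
/-- A module vanishing off `p` without global sections is zero. -/
theorem isZero_of_support (Q : X.Modules) (h0 : Subsingleton Γ(Q, ⊤))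
    (hQ : ∀ V : X.Opens, p ∉ V → Subsingleton Γ(Q, V)) : IsZero Q := by
  refine Groth.Agent.CohqB.LocalQC.isZero_of_subsingleton_sections fun V => ?_
  by_cases hpV : p ∈ V
  · let W : X.Opens := ⟨({p} : Set X)ᶜ, hp.isOpen_compl⟩
    have hVW : Subsingleton Γ(Q, V ⊓ W) := hQ _ fun h => h.2 rfl
    have key : ∀ s : Γ(Q, V), s = 0 := by
      intro s
      obtain ⟨t, ht⟩ := exists_glue Q (U := (⊤ : X.Opens)) (fun b : ULift.{u} Bool => if b.down then V else W)
        (fun _ => le_top) (fun x _ => by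
          by_cases hx : x = p
          · exact ⟨⟨true⟩, by subst hx; exact hpV⟩
          · exact ⟨⟨false⟩, hx⟩)
        (fun b => match b with
          | ⟨true⟩ => s
          | ⟨false⟩ => (0 : Γ(Q, W))) (by
          rintro ⟨_ | _⟩ ⟨_ | _⟩
          · rfl
          · have : Subsingleton Γ(Q, W ⊓ V) := by rw [inf_comm]; exact hVW
            exact this.elim _ _
          · exact hVW.elim _ _
          · rfl)
      have h1 := ht ⟨true⟩
      have h2 : t = 0 := h0.elim _ _
      rw [h2] at h1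
      exact h1.symm.trans (map_zero _)
    exact ⟨fun a b => (key a).trans (key b).symm⟩
  · exact hQ V hpV

include hiso in
theorem mono_unit [IsReduced X] (hdense : closure (({p} : Set X)ᶜ) = Set.univ) :
    Mono (ClSub.unitToPush π) := by
  refine Dix.IdealModSec.mono_of_injective _ fun U => ?_
  rw [injective_iff_map_eq_zero]
  suffices h : ∀ s : Γ(X, U), π.app U s = 0 → s = 0 from fun s hs => h s hs
  intro s hs'
  let W : X.Opens := ⟨({p} : Set X)ᶜ, hp.isOpen_compl⟩
  rw [← basicOpen_eq_bot_iff, eq_bot_iff]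
  intro x hx
  exfalso
  have h1 : x ∈ closure (({p} : Set X)ᶜ) := hdense ▸ Set.mem_univ x
  obtain ⟨y, hy, hyp⟩ := mem_closure_iff.1 h1 (X.basicOpen s) (X.basicOpen _).2 hx
  obtain ⟨y', rfl⟩ := exists_apply_eq π W (y := y) hyp
  have h2 : y' ∈ π ⁻¹ᵁ (X.basicOpen s) := hy
  rw [Scheme.preimage_basicOpen, hs'] at h2
  have h3 : X'.basicOpen (0 : Γ(X', π ⁻¹ᵁ U)) = ⊥ := Scheme.basicOpen_zero _ _
  rw [h3] at h2
  exact h2

include hiso in
theorem isIso_unit [IsReduced X] (hdense : closure (({p} : Set X)ᶜ) = Set.univ)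
    (hg : Subsingleton (Coh.HH X (Coh.structureModule X) 1)) (h0 : Function.Surjective (π.app ⊤)) :
    IsIso (ClSub.unitToPush π) := by
  have hm := mono_unit π hp hdense
  let W : X.Opens := ⟨({p} : Set X)ᶜ, hp.isOpen_compl⟩
  let S : ShortComplex X.Modules := ShortComplex.mk (ClSub.unitToPush π) (cokernel.π (ClSub.unitToPush π))
    (cokernel.condition _)
  have hS : S.ShortExact :=
    { exact := ShortComplex.exact_cokernel _
      mono_f := hm
      epi_g := inferInstanceAs (Epi (cokernel.π (ClSub.unitToPush π))) }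
  have hz : IsZero (cokernel (ClSub.unitToPush π)) := by
    refine isZero_of_support hp _ ?_ ?_
    · have key : ∀ q : Γ(cokernel (ClSub.unitToPush π), ⊤), q = 0 := by
        intro q
        obtain ⟨y, hy⟩ := Ega3B.SectExact.surjective_of_H1 hS hg q
        obtain ⟨z, hz⟩ := h0 y
        have h1 : (ClSub.unitToPush π).app ⊤ z = y := hz
        rw [← hy, ← h1]
        exact congr(($(cokernel.condition (ClSub.unitToPush π))).app ⊤ z)
      exact ⟨fun a b => (key a).trans (key b).symm⟩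
    · intro V hV
      have hVW : V ≤ W := fun x hx hxp => hV (by rw [← show x = p from hxp]; exact hx)
      have key : ∀ q : Γ(cokernel (ClSub.unitToPush π), V), q = 0 := by
        intro q
        refine section_ext _ _ _ fun x hx => ?_
        obtain ⟨V', hV', hxV', t, ht⟩ := VarietyB.ExactLoc.exists_lift_of_epi
          (cokernel.π (ClSub.unitToPush π)) q hx
        refine ⟨V', hV', hxV', ?_⟩
        have hi := isIso_app π W (hV'.trans hVW)
        obtain ⟨z, hz⟩ := (ConcreteCategory.bijective_of_isIso (π.app V')).2 t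
        have h1 : (ClSub.unitToPush π).app V' z = t := hz
        refine ht.symm.trans ?_
        rw [← h1]
        exact (congr(($(cokernel.condition (ClSub.unitToPush π))).app V' z)).trans (map_zero _).symm
      exact ⟨fun a b => (key a).trans (key b).symm⟩
  have he : Epi (ClSub.unitToPush π) := by
    have h1 : cokernel.π (ClSub.unitToPush π) = 0 := hz.eq_of_tgt _ _
    exact Preadditive.epi_of_cokernel_zero h1
  exact isIso_of_mono_of_epi _

end

section Pull

/-- `R^q ψ_* ψ^* F = 0` if `R^q ψ_* O = 0`, for `F` finite locally free. -/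
theorem subsingleton_HHon_pullback {X' X : Scheme.{u}} (ψ : X' ⟶ X) [QuasiCompact ψ] [QuasiSeparated ψ]
    {F : X.Modules} (hF : FlatMod.IsFinLocFree F) (q : ℕ)
    (h : ∀ V : X.Opens, IsAffineOpen V → Subsingleton (Coh.HHon X' (Coh.structureModule X') (ψ ⁻¹ᵁ V) q))
    {V : X.Opens} (hV : IsAffineOpen V) :
    Subsingleton (Coh.HHon X' ((Scheme.Modules.pullback ψ).obj F) (ψ ⁻¹ᵁ V) q) := by
  have := Dcoh.DerSch.hasInjectiveResolutions X'
  have hO : Coh.IsQCoh (Coh.structureModule X') := PerfA.QCohSerre.isQCoh_unit X'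
  have h1 : IsZero ((Coh.Rpush ψ q).obj (Coh.structureModule X')) :=
    (Ega3B.RpushAff.isZero_iff ψ _ hO q).2 h
  obtain ⟨e⟩ := S0927.result ψ (Coh.structureModule X') F hF q
  have h2 : IsZero (CohB1.tensorMod F ((Coh.Rpush ψ q).obj (Coh.structureModule X'))) := by
    rw [IsZero.iff_id_eq_zero]
    refine Ega2.Tens.hom_ext _ _ fun U p g => ?_
    have : g = 0 := (Ega3B.RpushAff.subsingleton_sections_of_isZero h1 U).elim _ _
    rw [this, Ega2.Tens.tmul_zero]
    exact (map_zero _).trans (map_zero _).symm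
  have h3 : IsZero ((Coh.Rpush ψ q).obj ((Scheme.Modules.pullback ψ).obj F)) :=
    (h2.of_iso e.symm).of_iso ((Coh.Rpush ψ q).mapIso (Ega2.Tens.runit _).symm)
  exact Ega3B.RpushAff.subsingleton_HHon_of_isZero ψ _ (PerfC.PullRestrict.isFinLocFree_pullback ψ hF |>
    PerfA.CohSerre.isCoh_of_isFinLocFree).1 hV q h3

variable {X' X : Scheme.{u}} (π : X' ⟶ X) {p : X} (hp : IsClosed ({p} : Set X))
  [hiso : IsIso (π ∣_ (⟨({p} : Set X)ᶜ, hp.isOpen_compl⟩ : X.Opens))]

include hiso in
theorem acyc [QuasiCompact π] [QuasiSeparated π] [IsLocallyNoetherian X] [IsNoetherian X']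
    (hdim : topologicalKrullDim X ≤ 1) (hdim' : topologicalKrullDim X' ≤ 1)
    (hg' : Subsingleton (Coh.HH X' (Coh.structureModule X') 1)) {F : X.Modules} (hF : FlatMod.IsFinLocFree F) :
    VarietyB.HHPush.Acyc π ((Scheme.Modules.pullback π).obj F) := by
  intro V hV n x
  suffices h : Subsingleton (Coh.HHon X' ((Scheme.Modules.pullback π).obj F) (π ⁻¹ᵁ V) (n + 1)) from
    ((CohqA.HOpen.HHonEquiv ((Scheme.Modules.pullback π).obj F) (π ⁻¹ᵁ V) (n + 1)).toEquiv.subsingleton_congr.2
      h).elim x 0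
  rcases Nat.eq_zero_or_pos n with rfl | hn
  · refine subsingleton_HHon_pullback π hF 1 (fun V' hV' => ?_) hV
    exact (CohqA.HOpen.HHonEquiv (Coh.structureModule X') (π ⁻¹ᵁ V') 1).toEquiv.subsingleton_congr.1
      (subsingleton_HU π hp hdim hg' hV')
  · have hd : topologicalKrullDim (π ⁻¹ᵁ V : X'.Opens).toScheme ≤ 1 :=
      ((π ⁻¹ᵁ V).ι.isOpenEmbedding.isEmbedding.isInducing.topologicalKrullDim_le).trans hdim'
    have hN : NoetherianSpace (π ⁻¹ᵁ V : X'.Opens).toScheme :=
      (π ⁻¹ᵁ V).ι.isOpenEmbedding.isEmbedding.isInducing.noetherianSpace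
    exact S0458.result 1 hd (Coh.toAb (((Scheme.Modules.pullback π).obj F).restrict (π ⁻¹ᵁ V).ι)) (n + 1) (by omega)

include hiso in
theorem finrank_eq (k : Type u) [Field k] [X.Over (Spec (CommRingCat.of k))] [X'.Over (Spec (CommRingCat.of k))]
    (hπ : π ≫ (X ↘ (Spec (CommRingCat.of k))) = X' ↘ (Spec (CommRingCat.of k)))
    [QuasiCompact π] [QuasiSeparated π] [IsLocallyNoetherian X] [IsNoetherian X'] [IsReduced X]
    (hdense : closure (({p} : Set X)ᶜ) = Set.univ)
    (hdim : topologicalKrullDim X ≤ 1) (hdim' : topologicalKrullDim X' ≤ 1)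
    (hg : Subsingleton (Coh.HH X (Coh.structureModule X) 1)) (h0 : Function.Surjective (π.app ⊤))
    (hg' : Subsingleton (Coh.HH X' (Coh.structureModule X') 1)) {F : X.Modules} (hF : FlatMod.IsFinLocFree F)
    (i : ℕ) :
    Module.finrank k (Coh.HH X F i) = Module.finrank k (Coh.HH X' ((Scheme.Modules.pullback π).obj F) i) := by
  have hB := VarietyB.TensCoh.HasBases.of_isFinLocFree hF
  have hi := isIso_unit π hp hdense hg h0
  have e1 : F ≅ (Scheme.Modules.pushforward π).obj ((Scheme.Modules.pullback π).obj F) :=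
    (Ega2.Tens.runit F).symm ≪≫ (DCoh.tensorBi.obj F).mapIso (asIso (ClSub.unitToPush π)) ≪≫
      VarietyB.ProjForm.projIsoUnit π hB
  obtain ⟨e2⟩ := VarietyB.HHPush.exists_equiv π k hπ i _ (acyc π hp hdim hdim' hg' hF)
  have e3 := (VarietyB.HHLes.toHH k F i).symm.trans ((VarietyB.HHLes.isoEquiv k e1 i).trans
    (e2.trans (VarietyB.HHLes.toHH k _ i)))
  exact e3.finrank_eq

end Pull

end K325.Contract
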