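import Groth.Agent.S3106
import Groth.Agent.S0224
import Groth.Agent.Etrest.HPush
import Groth.Agent.Fga.EtEquivCoh

/-!
# The genus does not increase under finite flat morphisms of curves
-/

set_option autoImplicit false

universe u

open CategoryTheory CategoryTheory.Limits AlgebraicGeometry TopologicalSpace Opposite

namespace K325.GenusLe

open Groth.Agent

theorem map_nsmul_id {C : Type*} [Category C] {J : GrothendieckTopology C} [HasSheafify J AddCommGrpCat.{u}]
    [HasExt.{u} (Sheaf J AddCommGrpCat.{u})] (F : Sheaf J AddCommGrpCat.{u}) (m n : ℕ) (x : Sheaf.H F m) :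
    Sheaf.H.map (n • 𝟙 F) m x = n • x := by
  induction n with
  | zero => simp [Sheaf.H.map_apply]
  | succ n ih => rw [succ_nsmul, Sheaf.H.map_add_apply, ih, Sheaf.H.map_id_apply, succ_nsmul]

/-- `k`-genus of the target is at most the genus of the source for finite flat morphisms of smooth proper curves over
an algebraically closed field. -/
theorem genus_le (k : Type u) [Field k] [IsAlgClosed k] {X Y : Scheme.{u}} [X.Over (Spec (CommRingCat.of k))]
    [Y.Over (Spec (CommRingCat.of k))] (hX : Curve.IsSmoothProperCurve k X (X ↘ Spec (CommRingCat.of k)))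
    (hY : Curve.IsSmoothProperCurve k Y (Y ↘ Spec (CommRingCat.of k))) (f : X ⟶ Y) [IsFinite f] [Flat f]
    [LocallyOfFinitePresentation f] (n : ℕ) (hn0 : 0 < n) (hn : ∀ y : Y, f.finrank y = n) :
    Module.finrank k (Coh.HH Y (Coh.structureModule Y) 1) ≤ Module.finrank k (Coh.HH X (Coh.structureModule X) 1) := by
  -- a prime
  obtain ⟨l, hl, hlp⟩ := Nat.exists_infinite_primes (max n (ringChar k) + 1)
  have hln : n < l := lt_of_lt_of_le (Nat.lt_succ_of_le (le_max_left _ _)) hl
  have hlc : ringChar k < l := lt_of_lt_of_le (Nat.lt_succ_of_le (le_max_right _ _)) hl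
  have hlk : (l : k) ≠ 0 := by
    intro h
    have h1 := (ringChar.spec k l).1 h
    rcases (Nat.dvd_prime hlp).1 h1 with h2 | h2
    · have := CharP.nontrivial_of_char_ne_one (R := k) (v := ringChar k)
      have h3 : (1 : k) = 0 := by
        have := (ringChar.spec k 1).2 (by rw [h2])
        simp at this
      exact one_ne_zero h3
    · omega
  have hfact : Fact l.Prime := ⟨hlp⟩
  obtain ⟨eX⟩ := S0224.result k X hX _ rfl l hlp.one_lt.le hlk
  obtain ⟨eY⟩ := S0224.result k Y hY _ rfl l hlp.one_lt.le hlk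
  obtain ⟨Tr, hTr⟩ := S3106.result f n hn
  have hTr' := hTr (EtCoh.const Y (ZMod l))
  obtain ⟨eP⟩ := Etrest.HPush.nonempty_HPushEquiv_of_isFinite f ((EtCoh.pull f).obj (EtCoh.const Y (ZMod l))) 1
  have i1 : (EtCoh.pull f).obj (EtCoh.const Y (ZMod l)) ≅ EtCoh.const X (ZMod l) :=
    (Fga.EtEquivCoh.constPullIso f).app _
  have hadd : ∀ x : EtCoh.H Y (EtCoh.const Y (ZMod l)) 1,
      Sheaf.H.map (n • 𝟙 (EtCoh.const Y (ZMod l))) 1 x = n • x := by
    intro x
    exact map_nsmul_id _ 1 n x
  have inj : Function.Injective (Sheaf.H.map ((EtCoh.pullPushAdj f).unit.app (EtCoh.const Y (ZMod l))) 1) := by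
    rw [injective_iff_map_eq_zero]
    intro x hx
    have h1 := hadd x
    rw [← hTr', Sheaf.H.map_comp_apply, hx, map_zero] at h1
    have h2 : l • x = 0 := by
      apply eY.injective
      rw [map_nsmul, map_zero]
      funext i
      simp
    have h3 : addOrderOf x ∣ n := addOrderOf_dvd_of_nsmul_eq_zero h1.symm
    have h4 : addOrderOf x ∣ l := addOrderOf_dvd_of_nsmul_eq_zero h2
    have h5 : addOrderOf x ∣ 1 := by
      have hcop : Nat.gcd l n = 1 := Nat.coprime_of_lt_prime (by omega) hln hlp
      have h6 := Nat.dvd_gcd h4 h3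
      rwa [hcop] at h6
    exact AddMonoid.addOrderOf_eq_one_iff.1 (Nat.dvd_one.1 h5)
  have he1 : Function.Injective (Sheaf.H.map i1.hom 1) := by
    intro a b hab
    have h1 := congrArg (Sheaf.H.map i1.inv 1) hab
    rwa [← Sheaf.H.map_comp_apply, ← Sheaf.H.map_comp_apply, i1.hom_inv_id, Sheaf.H.map_id_apply,
      Sheaf.H.map_id_apply] at h1
  let F : (Fin (2 * Module.finrank k (Coh.HH Y (Coh.structureModule Y) 1)) → ZMod l) →
      (Fin (2 * Module.finrank k (Coh.HH X (Coh.structureModule X) 1)) → ZMod l) := fun a =>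
    eX (Sheaf.H.map i1.hom 1 (eP.symm (Sheaf.H.map ((EtCoh.pullPushAdj f).unit.app (EtCoh.const Y (ZMod l))) 1 (eY.symm a))))
  have hF : Function.Injective F := by
    intro a b hab
    exact eY.symm.injective (inj (eP.symm.injective (he1 (eX.injective hab))))
  have hc := Fintype.card_le_of_injective F hF
  rw [Fintype.card_fun, Fintype.card_fun, ZMod.card, Fintype.card_fin, Fintype.card_fin,
    Nat.pow_le_pow_iff_right hlp.one_lt] at hc
  omega

end K325.GenusLe
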