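import Groth.Agent.Curves.K325.GlueSeq
import Groth.Agent.Sga2.PicThick
import Groth.Agent.Sga2lef.H83.Alg
import Groth.Agent.Ega2.H287.FinGenFree
import Groth.Agent.VarietyB.RestrSeq
import Groth.Agent.Flat2F.HHSeq
import Groth.Agent.FormalB.HHLin
import Groth.Agent.CurvesC.CurveNum
import Groth.Agent.PerfA.CohSerre

/-!
# Cohomology of locally free modules twisted by ideals of closed subschemes
-/

set_option autoImplicit false

universe u

open CategoryTheory CategoryTheory.Limits AlgebraicGeometry TopologicalSpace Opposite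

namespace K325.GlueCoh

open Groth.Agent Groth.Agent.Flat2F.HHSeq

variable {X : Scheme.{u}} (R Z : X.IdealSheafData)

theorem additive_flip (N : X.Modules) : (DCoh.tensorBi.flip.obj N).Additive where
  map_add {A B f g} := by
    change ((DCoh.tensorBi.map (f + g)).app N) = _
    rw [Functor.map_add]
    rfl

theorem subsingleton_of_inf {F : X.Modules} (hF : FlatMod.IsFinLocFree F) (q : ℕ)
    (h1 : Subsingleton (Coh.HH X (CohB1.tensorMod F (ClSub.idealMod (R ⊓ Z))) q))
    (h2 : Subsingleton (Coh.HH Z.subscheme (CohB1.tensorMod ((Scheme.Modules.pullback Z.subschemeι).obj F)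
      (ClSub.idealMod (R.comap Z.subschemeι))) q)) :
    Subsingleton (Coh.HH X (CohB1.tensorMod F (ClSub.idealMod R)) q) := by
  have hB := VarietyB.TensCoh.HasBases.of_isFinLocFree hF
  have hS := VarietyB.ExactLoc.tensor_shortExact hB _ (GlueSeq.shortExact R Z)
  refine subsingleton_HH_middle hS q h1 ?_
  exact subsingleton_HH_of_iso (VarietyB.ProjForm.projIso Z.subschemeι hB _).symm q
    (Sga2.PicThick.subsingleton_HH_pushforward Z.subschemeι _ q h2)

theorem isZero_idealMod_bot : IsZero (ClSub.idealMod (⊥ : X.IdealSheafData)) := by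
  rw [IsZero.iff_id_eq_zero]
  apply Scheme.Modules.hom_ext
  intro U
  ext x
  refine Ega1.SubSheaf.section_ext (ClSub.idealMod (⊥ : X.IdealSheafData)) _ _ fun p hp => ?_
  obtain ⟨V, hV, hpV, hVU⟩ := (Opens.isBasis_iff_nbhd.mp X.isBasis_affineOpens) hp
  refine ⟨V, hVU, hpV, ?_⟩
  apply Dix.IdealModCartier.val_injective
  have h1 := Dix.IdealModCartier.val_mem (⊥ : X.IdealSheafData) ⟨V, hV⟩
    (Ega1.SubSheaf.res (ClSub.idealMod (⊥ : X.IdealSheafData)) hVU x)
  have h2 := Dix.IdealModCartier.val_mem (⊥ : X.IdealSheafData) ⟨V, hV⟩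
    (Ega1.SubSheaf.res (ClSub.idealMod (⊥ : X.IdealSheafData)) hVU
      ((0 : ClSub.idealMod (⊥ : X.IdealSheafData) ⟶ ClSub.idealMod (⊥ : X.IdealSheafData)).app U x))
  exact (Ideal.mem_bot.1 h1).trans (Ideal.mem_bot.1 h2).symm

theorem subsingleton_bot (F : X.Modules) (q : ℕ) :
    Subsingleton (Coh.HH X (CohB1.tensorMod F (ClSub.idealMod (⊥ : X.IdealSheafData))) q) := by
  have h : IsZero ((DCoh.tensorBi.obj F).obj (ClSub.idealMod (⊥ : X.IdealSheafData))) :=
    (DCoh.tensorBi.obj F).map_isZero isZero_idealMod_bot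
  refine subsingleton_of_forall_eq 0 fun x => ?_
  have h1 := FormalB.HHLin.hm_id _ q x
  have h2 : 𝟙 (CohB1.tensorMod F (ClSub.idealMod (⊥ : X.IdealSheafData))) = 0 := (IsZero.iff_id_eq_zero _).1 h
  rw [← h1, h2, FormalB.HHLin.hm_zero]

theorem subsingleton_comap (q : ℕ) (h1 : Subsingleton (Coh.HH X (ClSub.idealMod R) q))
    (h2 : Subsingleton (Coh.HH X (ClSub.idealMod (R ⊓ Z)) (q + 1))) :
    Subsingleton (Coh.HH Z.subscheme (ClSub.idealMod (R.comap Z.subschemeι)) q) :=
  Sga2.PicThick.subsingleton_HH_of_pushforward Z.subschemeι _ q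
    (subsingleton_HH_right (GlueSeq.shortExact R Z) q h1 h2)

/-- Tensoring with a globally generated coherent module preserves the vanishing of the top cohomology. -/
theorem subsingleton_tensor_of_gg [CompactSpace X] {F : X.Modules} (hF : Coh.IsCoh F)
    (hg : Curv2.IsGloballyGenerated F) (G : X.Modules) (q : ℕ) (h : Subsingleton (Coh.HH X G q))
    (hv : ∀ M : X.Modules, Subsingleton (Coh.HH X M (q + 1))) :
    Subsingleton (Coh.HH X (CohB1.tensorMod F G) q) := by
  obtain ⟨N, p, hp⟩ := Ega2.H287.FinGenFree.exists_epi_freeMod hF hg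
  have := additive_flip G
  have h1 : Subsingleton (Coh.HH X ((DCoh.tensorBi.flip.obj G).obj (FlatMod.freeMod X N)) q) :=
    Sga2lef.H83.Alg.subsingleton_HH_free (DCoh.tensorBi.flip.obj G) N q
      (subsingleton_HH_of_iso (Ega2.Tens.lunit G).symm q h)
  have h2 : Epi ((DCoh.tensorBi.flip.obj G).map p) := inferInstance
  have hS : (ShortComplex.mk (kernel.ι ((DCoh.tensorBi.flip.obj G).map p)) ((DCoh.tensorBi.flip.obj G).map p)
    (kernel.condition _)).ShortExact := VarietyA.StalkCrit.shortExact_kernel _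
  exact subsingleton_HH_right hS q h1 (hv _)

/-- If the cohomology of `F ⊗ I_R` vanishes in degrees `q` and `q + 1` then `h^q (F) = h^q (F|_R)`. -/
theorem finrank_eq (k : Type u) [Field k] [X.Over (Spec (CommRingCat.of k))] {F : X.Modules}
    (hF : FlatMod.IsFinLocFree F) (q : ℕ)
    (h1 : Subsingleton (Coh.HH X (CohB1.tensorMod F (ClSub.idealMod R)) q))
    (h2 : Subsingleton (Coh.HH X (CohB1.tensorMod F (ClSub.idealMod R)) (q + 1))) :
    letI : R.subscheme.Over (Spec (CommRingCat.of k)) := ⟨R.subschemeι ≫ (X ↘ (Spec (CommRingCat.of k)))⟩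
    Module.finrank k (Coh.HH X F q) =
      Module.finrank k (Coh.HH R.subscheme ((Scheme.Modules.pullback R.subschemeι).obj F) q) := by
  let _ : R.subscheme.Over (Spec (CommRingCat.of k)) := ⟨R.subschemeι ≫ (X ↘ (Spec (CommRingCat.of k)))⟩
  have hB := VarietyB.TensCoh.HasBases.of_isFinLocFree hF
  have hS := VarietyB.RestrSeq.restrSeq_shortExact hB R
  have hbij : Function.Bijective (FormalB.HHLin.hmap k (VarietyB.RestrSeq.restrSeq hB R).g q) := by
    constructor
    · rw [injective_iff_map_eq_zero]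
      intro x hx
      obtain ⟨y, hy⟩ := FormalB.HHLin.exact₂ hS q x hx
      rw [← hy, @Subsingleton.elim _ h1 y 0]
      exact map_zero _
    · intro x
      obtain ⟨y, hy⟩ := FormalB.HHLin.exact₃ hS q x (@Subsingleton.elim _ h2 _ _)
      exact ⟨y, hy⟩
  have e1 := (LinearEquiv.ofBijective _ hbij).finrank_eq
  have e2 := (CurvesC.CurveNum.hhPushₗ k R.subschemeι rfl ((Scheme.Modules.pullback R.subschemeι).obj F) q).finrank_eq
  exact e1.trans e2.symm

end K325.GlueCoh
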