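import Groth.Agent.Pic13.H945.IdealPull
import Groth.Agent.Dix.TwistClosed490
import Groth.Agent.CurvesC.SESLocal
import Groth.Agent.CurvesC.KerSec
import Groth.Agent.VarietyB.ProjForm
import Groth.Agent.VarietyB.ExactLoc
import Groth.Agent.VarietyB.TensCoh

/-!
# The exact sequence `0 → I_{R ∪ Z} → I_R → i_* I_{R ∩ Z ⊂ Z} → 0`
-/

set_option autoImplicit false

universe u

open CategoryTheory CategoryTheory.Limits AlgebraicGeometry TopologicalSpace Opposite

namespace K325.GlueSeq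

open Groth.Agent Groth.Agent.Dix.IdealModCartier Groth.Agent.Dix.TwistClosed490 Groth.Agent.Pic13.H945.IdealPull
  Groth.Agent.Ega1.SubSheaf Groth.Agent.CurvesC.HomRel

variable {X : Scheme.{u}} (R Z : X.IdealSheafData)

theorem appLE_eq_zero_iff (U : X.affineOpens) (s : Γ(X, U.1)) (V : Z.subscheme.Opens)
    (hV : V = Z.subschemeι ⁻¹ᵁ U.1) :
    Z.subschemeι.appLE U.1 V hV.le s = 0 ↔ s ∈ Z.ideal U := by
  subst hV
  rw [Scheme.Hom.appLE_eq_app]
  exact CohqA.IdealMod.toSubscheme_app_eq_zero_iff Z U s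

theorem psi_zero_iff (U : X.affineOpens) (s : Γ(ClSub.idealMod R, U.1)) :
    (psi Z.subschemeι R).app U.1 s = 0 ↔ val R s ∈ Z.ideal U := by
  rw [← appLE_eq_zero_iff Z U (val R s) _ rfl, ← val_pullVal, psi_app]
  constructor
  · intro h
    rw [h]
    exact val_zero _
  · intro h
    exact val_injective _ (h.trans (val_zero _).symm)

theorem incl_psi_eq_zero : incl (inf_le_left : R ⊓ Z ≤ R) ≫ psi Z.subschemeι R = 0 := by
  apply Scheme.Modules.hom_ext
  intro U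
  ext x
  refine section_ext ((Scheme.Modules.pushforward Z.subschemeι).obj (ClSub.idealMod (R.comap Z.subschemeι)))
    _ _ fun p hp => ?_
  obtain ⟨V, hV, hpV, hVU⟩ := (Opens.isBasis_iff_nbhd.mp X.isBasis_affineOpens) hp
  refine ⟨V, hVU, hpV, ?_⟩
  rw [← app_res]
  change (psi Z.subschemeι R).app V ((incl (inf_le_left : R ⊓ Z ≤ R)).app V (res _ hVU x)) = _
  have h1 : (psi Z.subschemeι R).app V ((incl (inf_le_left : R ⊓ Z ≤ R)).app V (res _ hVU x)) = 0 := by
    rw [psi_zero_iff R Z ⟨V, hV⟩, val_incl]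
    exact (inf_le_right : R ⊓ Z ≤ Z) _ (val_mem _ ⟨V, hV⟩ _)
  rw [h1]
  exact (map_zero _).symm

theorem shortExact : (ShortComplex.mk (incl (inf_le_left : R ⊓ Z ≤ R)) (psi Z.subschemeι R)
    (incl_psi_eq_zero R Z)).ShortExact := by
  refine CurvesC.SESLocal.shortExact_of_local _ _ ?_ ?_ _ ?_
  · intro U s t hst
    apply val_injective
    rw [← val_incl (inf_le_left : R ⊓ Z ≤ R), ← val_incl (inf_le_left : R ⊓ Z ≤ R)]
    exact congrArg (val R) hst
  · refine locSurj_of_affine _ fun U hU t => ?_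
    let t' : Γ(ClSub.idealMod (R.comap Z.subschemeι), Z.subschemeι ⁻¹ᵁ U) := t
    have hV : IsAffineOpen (Z.subschemeι ⁻¹ᵁ U) := hU.preimage Z.subschemeι
    have h1 := val_mem (R.comap Z.subschemeι) ⟨_, hV⟩ t'
    rw [Groth.Agent.Divis.IdealComap.ideal_comap R Z.subschemeι ⟨U, hU⟩ ⟨_, hV⟩ le_rfl] at h1
    have hsurj : Function.Surjective (Z.subschemeι.appLE U (Z.subschemeι ⁻¹ᵁ U) le_rfl).hom := by
      rw [Scheme.Hom.appLE_eq_app]
      exact Z.subschemeι.app_surjective U hU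
    obtain ⟨r, hr, hrt⟩ := (Ideal.mem_map_iff_of_surjective _ hsurj).1 h1
    obtain ⟨s, hs⟩ := exists_val_eq R ⟨U, hU⟩ hr
    refine ⟨s, ?_⟩
    rw [psi_app]
    apply val_injective
    rw [val_pullVal, hs]
    exact hrt
  · intro U x hx p hp
    obtain ⟨V, hV, hpV, hVU⟩ := (Opens.isBasis_iff_nbhd.mp X.isBasis_affineOpens) hp
    refine ⟨V, hVU, hpV, ?_⟩
    have h1 : val R (res _ hVU x) ∈ Z.ideal ⟨V, hV⟩ := by
      rw [← psi_zero_iff R Z ⟨V, hV⟩]
      refine (app_res (psi Z.subschemeι R) hVU x).trans ?_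
      rw [hx]
      exact map_zero _
    have h2 : val R (res _ hVU x) ∈ (R ⊓ Z).ideal ⟨V, hV⟩ := ⟨val_mem R ⟨V, hV⟩ _, h1⟩
    obtain ⟨y, hy⟩ := exists_val_eq (R ⊓ Z) ⟨V, hV⟩ h2
    refine ⟨y, ?_⟩
    apply val_injective
    rw [val_incl, hy]

end K325.GlueSeq
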