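import Groth.Agent.Curves.K325.NodeInterSch
import Groth.Agent.CurvesC.DualDegForm
import Groth.Agent.CurvesC.GenusOne512
import Groth.Agent.Models.H74.H0Card

/-!
# The number of points of the intersection of a union of components of a nodal curve with the rest
-/

set_option autoImplicit false

universe u

open CategoryTheory CategoryTheory.Limits AlgebraicGeometry TopologicalSpace IsLocalRing

namespace K325.NodeCount

open Groth.Agent Groth.Agent.Divis.CartierBasic Groth.Agent.CurvesC

/-- A Noetherian sober `T0` space of dimension at most zero is finite and discrete. -/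
theorem finite_and_discrete {T : Type u} [TopologicalSpace T] [NoetherianSpace T] [QuasiSober T] [T0Space T]
    (hd : topologicalKrullDim T ≤ 0) : Finite T ∧ DiscreteTopology T := by
  rw [topologicalKrullDim, Order.krullDim_nonpos_iff_forall_isMax] at hd
  have key : ∀ x y : T, x ⤳ y → x = y := by
    intro x y hxy
    let a : IrreducibleCloseds T := ⟨closure {x}, isIrreducible_singleton.closure, isClosed_closure⟩
    let b : IrreducibleCloseds T := ⟨closure {y}, isIrreducible_singleton.closure, isClosed_closure⟩
    have hba : b ≤ a := by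
      change closure {y} ⊆ closure {x}
      exact closure_minimal (Set.singleton_subset_iff.2 (specializes_iff_mem_closure.1 hxy)) isClosed_closure
    have hab : a ≤ b := hd b hba
    have hyx : y ⤳ x := by
      rw [specializes_iff_mem_closure]
      exact hab (subset_closure rfl)
    exact (hxy.antisymm hyx).eq
  have hcl : ∀ x : T, IsClosed ({x} : Set T) := by
    intro x
    have : closure {x} = ({x} : Set T) := by
      ext z
      rw [← specializes_iff_mem_closure, Set.mem_singleton_iff]
      exact ⟨fun h => (key _ _ h).symm, fun h => h ▸ specializes_rfl⟩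
    rw [← this]
    exact isClosed_closure
  have hfin := NoetherianSpace.finite_irreducibleComponents (α := T)
  have hcomp : ∀ x : T, ({x} : Set T) ∈ irreducibleComponents T := by
    intro x
    obtain ⟨Z, hZ, hxZ⟩ := exists_mem_irreducibleComponents_subset_of_isIrreducible ({x} : Set T)
      isIrreducible_singleton
    have h1 : IsClosed Z := isClosed_of_mem_irreducibleComponents Z hZ
    obtain ⟨g, hg⟩ := QuasiSober.sober hZ.1 h1
    have h2 : x ∈ closure {g} := by
      rw [hg.def]
      exact hxZ rfl
    have h3 : g = x := key _ _ (specializes_iff_mem_closure.2 h2)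
    have h4 : Z = {x} := by
      rw [← hg.def, h3, (hcl x).closure_eq]
    rw [← h4]
    exact hZ
  have hF : Finite T := by
    have : Finite (irreducibleComponents T) := hfin
    refine Finite.of_injective (fun x : T => (⟨{x}, hcomp x⟩ : irreducibleComponents T)) fun x y h => ?_
    exact Set.singleton_injective (congrArg Subtype.val h)
  have : T1Space T := ⟨hcl⟩
  exact ⟨hF, inferInstance⟩

theorem mul_stalk {X : Scheme.{u}} [IsReduced X] [IsNoetherian X] (Y : Closeds X) (x : X) :
    ∀ a ∈ stalkIdeal (Scheme.IdealSheafData.vanishingIdeal Y) x,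
      ∀ b ∈ stalkIdeal (TailGeom.complIdeal Y) x, a * b = 0 := by
  intro a ha b hb
  obtain ⟨U, hxU⟩ := exists_affine x
  rw [stalkIdeal_eq _ U hxU] at ha hb
  have h1 : a * b ∈ ((Scheme.IdealSheafData.vanishingIdeal Y).ideal U).map (X.presheaf.germ U.1 x hxU).hom *
      ((TailGeom.complIdeal Y).ideal U).map (X.presheaf.germ U.1 x hxU).hom := Ideal.mul_mem_mul ha hb
  rw [← Ideal.map_mul] at h1
  have h2 : (Scheme.IdealSheafData.vanishingIdeal Y).ideal U * (TailGeom.complIdeal Y).ideal U = ⊥ := by
    rw [eq_bot_iff, Ideal.mul_le]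
    intro r hr s hs
    exact DualIdeals.mul_eq_zero Y.isClosed U r s hr hs
  rw [h2, Ideal.map_bot] at h1
  exact h1

section Main

attribute [local instance] TailNum.subOver

variable (k : Type u) [Field k] {X : Scheme.{u}} [X.Over (Spec (CommRingCat.of k))]
  [IsProper (X ↘ Spec (CommRingCat.of k))]

theorem support_inter [IsLocallyNoetherian X] (Y : Closeds X) :
    ((Scheme.IdealSheafData.vanishingIdeal Y ⊔ TailGeom.complIdeal Y).support : Set X) =
      (Y : Set X) ∩ closure (Y : Set X)ᶜ := by
  rw [Scheme.IdealSheafData.support_sup, Closeds.coe_inf,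
      TailGeom.support_complIdeal, Scheme.IdealSheafData.coe_support_vanishingIdeal]

theorem isReduced_inter (hX : Curv2.AtWorstNodal k X) (hdim : topologicalKrullDim X ≤ 1) (Y : Closeds X)
    (hY : (Y : Set X) ⊆ closure (interior Y)) :
    IsReduced (Scheme.IdealSheafData.vanishingIdeal Y ⊔ TailGeom.complIdeal Y).subscheme := by
  have hN := CurveCoh.noetherianSpace k X
  have hN1 : IsLocallyNoetherian X := LocallyOfFiniteType.isLocallyNoetherian (X ↘ (Spec (CommRingCat.of k)))
  have hCS : CompactSpace X := QuasiCompact.compactSpace_of_compactSpace (X ↘ (Spec (CommRingCat.of k)))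
  have hN2 : IsNoetherian X := { }
  have hred := GenusOne512.isReduced_of_atWorstNodal k X hX
  have hK : IsReduced (TailGeom.complIdeal Y).subscheme := Ega1.ReducedSub.isReduced_image _
  have hJ : IsReduced (Scheme.IdealSheafData.vanishingIdeal Y).subscheme :=
    Ega1.ReducedSub.isReduced_subscheme _ fun U ↦ by
      rw [Scheme.IdealSheafData.vanishingIdeal_ideal]
      exact PrimeSpectrum.isRadical_vanishingIdeal _
  refine NodeInterSch.isReduced_of_stalkIdeal _ fun x hx => ?_
  have hx' : x ∈ (Y : Set X) ∩ closure (Y : Set X)ᶜ := by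
    rw [← support_inter]
    exact hx
  have hsupp : ((Scheme.IdealSheafData.vanishingIdeal Y).support : Set X) = Y :=
    Scheme.IdealSheafData.coe_support_vanishingIdeal _
  refine NodeInterSch.stalkIdeal_sup_eq k hX hdim x (mul_stalk Y x) ?_ ?_ ?_ ?_
  · rw [← SetLike.mem_coe, hsupp]
    exact hx'.1
  · rw [← SetLike.mem_coe, TailGeom.support_complIdeal]
    exact hx'.2
  · intro h
    have := NodeInterSch.notMem_closure_of_stalkIdeal_eq_bot _ x h
    rw [hsupp] at this
    exact this hx'.2
  · intro h
    have := NodeInterSch.notMem_closure_of_stalkIdeal_eq_bot _ x h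
    rw [TailGeom.support_complIdeal, ← interior_eq_compl_closure_compl] at this
    exact this (hY hx'.1)

theorem finrank_inter_card [IsAlgClosed k] (hX : Curv2.AtWorstNodal k X) (hdim : topologicalKrullDim X ≤ 1)
    (Y : Closeds X) (hY : (Y : Set X) ⊆ closure (interior Y)) :
    Module.finrank k (Coh.HH X (ClSub.quotMod (Scheme.IdealSheafData.vanishingIdeal Y ⊔ TailGeom.complIdeal Y)) 0) =
      Nat.card ((Y : Set X) ∩ closure (Y : Set X)ᶜ : Set X) := by
  have hN := CurveCoh.noetherianSpace k X
  have hN1 : IsLocallyNoetherian X := LocallyOfFiniteType.isLocallyNoetherian (X ↘ (Spec (CommRingCat.of k)))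
  have hr := isReduced_inter k hX hdim Y hY
  have hs := support_inter Y
  set T := Scheme.IdealSheafData.vanishingIdeal Y ⊔ TailGeom.complIdeal Y with hT
  have hNT : NoetherianSpace T.subscheme :=
    T.subschemeι.isEmbedding.isInducing.noetherianSpace
  have hd : topologicalKrullDim T.subscheme ≤ 0 := by
    refine DualDegForm.dim_le_zero hdim T.subschemeι T.subschemeι.isClosedEmbedding fun o ho hne hoT => ?_
    rw [Scheme.IdealSheafData.range_subschemeι, hs] at hoT
    obtain ⟨x, hx⟩ := hne
    obtain ⟨y, hyo, hy⟩ := mem_closure_iff.mp (hoT hx).2 o ho hx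
    exact hy (hoT hyo).1
  obtain ⟨hF, hD⟩ := finite_and_discrete hd
  rw [← TailNum.finrank_quotMod k X T 0]
  have hP : IsProper (T.subscheme ↘ Spec (CommRingCat.of k)) :=
      inferInstanceAs (IsProper (T.subschemeι ≫ (X ↘ (Spec (CommRingCat.of k)))))
  rw [(Models.H74.H0Card.finite_and_finrank k (Z := T.subscheme)).2]
  rw [← hs, ← Scheme.IdealSheafData.range_subschemeι]
  refine Nat.card_congr ?_
  refine Equiv.trans ?_ (Equiv.ofInjective _ T.subschemeι.isEmbedding.injective)
  refine (Equiv.ofBijective (_root_.ConnectedComponents.mk : T.subscheme → _root_.ConnectedComponents T.subscheme)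
    ⟨?_, Quot.mk_surjective⟩).symm
  intro x y hxy
  have h1 : connectedComponent x = connectedComponent y := _root_.ConnectedComponents.coe_eq_coe.1 hxy
  rw [connectedComponent_eq_singleton, connectedComponent_eq_singleton] at h1
  exact Set.singleton_injective h1

end Main

end K325.NodeCount
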