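import Groth.Agent.CurvesC.NodalLen

/-!
# Two branches of a node meet transversally

In a node-like reduced Noetherian local ring, two nonzero radical ideals `J`, `K` of the maximal ideal with
`J K = 0` add up to the maximal ideal.
-/

set_option autoImplicit false

open IsLocalRing Groth.Agent.CurvesB.Node Groth.Agent.CurvesC.NodalLen

namespace K325.NodeInter

variable {A : Type*} [CommRing A] [IsLocalRing A] [IsNoetherianRing A]

theorem maximalIdeal_ne_bot (h : NodeLike A) : maximalIdeal A ≠ ⊥ := by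
  intro hb
  apply h.not_principal 1 le_rfl
  rw [pow_one, hb]
  exact ⟨⟨0, by simp⟩⟩

theorem not_le_sq [IsReduced A] (h : NodeLike A) {J : Ideal A} (hJ : J.IsRadical) (hJ0 : J ≠ ⊥) :
    ¬ J ≤ maximalIdeal A ^ 2 := by
  intro hle
  obtain ⟨t, ε, hm, hε, ht⟩ := goodParam_of_nodeLike h
  have htm : t ∈ maximalIdeal A := by rw [hm]; exact Ideal.subset_span (by simp)
  have hsq : maximalIdeal A ^ 2 ≤ Ideal.span {t} := by
    rw [hm, span_pair_sq, Ideal.span_le]
    rintro x (rfl | rfl | rfl)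
    · exact Ideal.mem_span_singleton'.2 ⟨t, by ring⟩
    · exact Ideal.mem_span_singleton'.2 ⟨ε, by ring⟩
    · exact hε
  by_cases hreg : ∀ x, t * x ∈ J → x ∈ J
  · apply hJ0
    have h1 : J ≤ maximalIdeal A • J := by
      intro j hj
      obtain ⟨x, hx⟩ := Ideal.mem_span_singleton'.1 (hsq (hle hj))
      rw [mul_comm] at hx
      rw [← hx]
      exact Submodule.smul_mem_smul htm (hreg x (hx ▸ hj))
    exact Submodule.eq_bot_of_le_smul_of_le_jacobson_bot _ _ (IsNoetherian.noetherian J) h1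
      (by rw [IsLocalRing.jacobson_eq_maximalIdeal _ bot_ne_top])
  · push Not at hreg
    obtain ⟨x, hx, hxJ⟩ := hreg
    obtain ⟨q, hq, hxq⟩ : ∃ q ∈ J.minimalPrimes, x ∉ q := by
      by_contra hcon
      push Not at hcon
      apply hxJ
      rw [← hJ.radical, ← Ideal.sInf_minimalPrimes, Ideal.mem_sInf]
      intro q hq
      exact hcon q hq
    have hqp : q.IsPrime := hq.1.1
    have htq : t ∈ q := (hqp.mem_or_mem (hq.1.2 hx)).resolve_right hxq
    have hεq : ε ∈ q := by
      obtain ⟨c, hc⟩ := Ideal.mem_span_singleton'.mp hε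
      exact hqp.mem_of_pow_mem 2 (hc ▸ q.mul_mem_left _ htq)
    have hmq : maximalIdeal A ≤ q := by
      rw [hm, Ideal.span_le]
      rintro y (rfl | rfl)
      · exact htq
      · exact hεq
    have hJm : maximalIdeal A ≤ J := by
      rw [← hJ.radical, Ideal.radical_eq_sInf]
      refine le_sInf fun q' ⟨hq'J, hq'p⟩ => hmq.trans ?_
      exact hq.2 ⟨hq'p, hq'J⟩ ((IsLocalRing.le_maximalIdeal hq'p.ne_top).trans hmq)
    apply maximalIdeal_ne_bot h
    refine Submodule.eq_bot_of_le_smul_of_le_jacobson_bot (maximalIdeal A) _ (IsNoetherian.noetherian _) ?_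
      (by rw [IsLocalRing.jacobson_eq_maximalIdeal _ bot_ne_top])
    rw [smul_eq_mul, ← pow_two]
    exact hJm.trans hle

theorem span_pair_eq (h : NodeLike A) {u v : A} (hu : u ∈ maximalIdeal A) (hu' : u ∉ maximalIdeal A ^ 2)
    (hv : v ∈ maximalIdeal A) (hv' : v ∉ maximalIdeal A ^ 2) (huv : u * v = 0) :
    maximalIdeal A = Ideal.span {u, v} := by
  obtain ⟨a₁, a₂, -, -, -, hm, -, -⟩ := h.exists_gens
  obtain ⟨b, hb⟩ : ∃ b, maximalIdeal A = Ideal.span {u, b} := by
    have h1 : u ∈ Ideal.span {a₁, a₂} := hm ▸ hu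
    obtain ⟨p, q, hpq⟩ := Ideal.mem_span_pair.1 h1
    have ha₁ : a₁ ∈ maximalIdeal A := by rw [hm]; exact Ideal.subset_span (by simp)
    have ha₂ : a₂ ∈ maximalIdeal A := by rw [hm]; exact Ideal.subset_span (by simp)
    by_cases hp : IsUnit p
    · obtain ⟨p, rfl⟩ := hp
      refine ⟨a₂, le_antisymm ?_ ?_⟩
      · rw [hm, Ideal.span_le]
        rintro x (rfl | rfl)
        · rw [SetLike.mem_coe, Ideal.mem_span_pair]
          refine ⟨(↑p⁻¹ : A), -(↑p⁻¹ : A) * q, ?_⟩
          rw [← hpq, mul_add, ← mul_assoc, Units.inv_mul]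
          ring
        · exact Ideal.subset_span (by simp)
      · rw [Ideal.span_le]
        rintro x (rfl | rfl)
        · exact hu
        · exact ha₂
    · by_cases hq : IsUnit q
      · obtain ⟨q, rfl⟩ := hq
        refine ⟨a₁, le_antisymm ?_ ?_⟩
        · rw [hm, Ideal.span_le]
          rintro x (rfl | rfl)
          · exact Ideal.subset_span (by simp)
          · rw [SetLike.mem_coe, Ideal.mem_span_pair]
            refine ⟨(↑q⁻¹ : A), -(↑q⁻¹ : A) * p, ?_⟩
            rw [← hpq, mul_add, ← mul_assoc (↑q⁻¹ : A) (↑q : A), Units.inv_mul]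
            ring
        · rw [Ideal.span_le]
          rintro x (rfl | rfl)
          · exact hu
          · exact ha₁
      · exfalso
        apply hu'
        rw [← hpq, pow_two]
        exact Ideal.add_mem _ (Ideal.mul_mem_mul hp ha₁) (Ideal.mul_mem_mul hq ha₂)
  have hbm : b ∈ maximalIdeal A := by rw [hb]; exact Ideal.subset_span (by simp)
  obtain ⟨c, d, hcd⟩ := Ideal.mem_span_pair.1 (hb ▸ hv : v ∈ Ideal.span {u, b})
  by_cases hd : IsUnit d
  · obtain ⟨d, rfl⟩ := hd
    apply le_antisymm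
    · rw [hb, Ideal.span_le]
      rintro x (rfl | rfl)
      · exact Ideal.subset_span (by simp)
      · rw [SetLike.mem_coe, Ideal.mem_span_pair]
        refine ⟨-(↑d⁻¹ : A) * c, (↑d⁻¹ : A), ?_⟩
        rw [← hcd, mul_add, ← mul_assoc (↑d⁻¹ : A) (↑d : A), Units.inv_mul]
        ring
    · rw [Ideal.span_le]
      rintro x (rfl | rfl)
      · exact hu
      · exact hv
  · exfalso
    have hc : IsUnit c := by
      by_contra hc
      apply hv'
      rw [← hcd, pow_two]
      exact Ideal.add_mem _ (Ideal.mul_mem_mul hc hu) (Ideal.mul_mem_mul hd hbm)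
    obtain ⟨d₁, d₂, hd12⟩ := Ideal.mem_span_pair.1 (hb ▸ hd : d ∈ Ideal.span {u, b})
    have hα : IsUnit (c + d₁ * b) := by
      by_contra hcon
      have h1 : c + d₁ * b ∈ maximalIdeal A := hcon
      have h2 : d₁ * b ∈ maximalIdeal A := Ideal.mul_mem_left _ _ hbm
      exact ((Ideal.add_mem_iff_left _ h2).1 h1) hc
    have hrel : (c + d₁ * b) * u ^ 2 + (d₂ * b) * u * b + 0 * b ^ 2 = 0 := by
      have h1 : u * v = (c + d₁ * b) * u ^ 2 + (d₂ * b) * u * b + 0 * b ^ 2 := by
        rw [← hcd, ← hd12]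
        ring
      rw [← h1, huv]
    have h3 := isUnit_disc_of_relation h hb (Or.inl hα) hrel
    have h4 : 4 * (c + d₁ * b) * 0 - (d₂ * b) ^ 2 ∈ maximalIdeal A := by
      rw [mul_zero, zero_sub]
      exact neg_mem (Ideal.pow_mem_of_mem _ (Ideal.mul_mem_left _ _ hbm) 2 (by norm_num))
    exact h4 h3

/-- Two branches of a node meet transversally. -/
theorem sup_eq [IsReduced A] (h : NodeLike A) {J K : Ideal A} (hJ : J.IsRadical) (hJ0 : J ≠ ⊥)
    (hK : K.IsRadical) (hK0 : K ≠ ⊥) (hJm : J ≤ maximalIdeal A) (hKm : K ≤ maximalIdeal A)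
    (hJK : ∀ a ∈ J, ∀ b ∈ K, a * b = 0) : J ⊔ K = maximalIdeal A := by
  obtain ⟨u, huJ, hu⟩ := Set.not_subset.1 (not_le_sq h hJ hJ0)
  obtain ⟨v, hvK, hv⟩ := Set.not_subset.1 (not_le_sq h hK hK0)
  refine le_antisymm (sup_le hJm hKm) ?_
  rw [span_pair_eq h (hJm huJ) hu (hKm hvK) hv (hJK u huJ v hvK), Ideal.span_le]
  rintro x (rfl | rfl)
  · exact Ideal.mem_sup_left huJ
  · exact Ideal.mem_sup_right hvK

end K325.NodeInter
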