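import Groth.Agent.Curves.K325.NodeInterSch
import Groth.Agent.Curves.K325.GlueSeq
import Groth.Agent.CurvesC.TailUnion
import Groth.Agent.CurvesC.GenusOne512

/-!
# Intersections of reduced closed subschemes of a nodal curve are reduced
-/

set_option autoImplicit false

universe u

open CategoryTheory CategoryTheory.Limits AlgebraicGeometry TopologicalSpace IsLocalRing Opposite

namespace K325.NodeTransv

open Groth.Agent Groth.Agent.Divis.CartierBasic Groth.Agent.Divis.CartierStalk

/-- If the stalks of `R + Z` are the maximal ideals, then the intersection is reduced. -/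
theorem isReduced_comap {X : Scheme.{u}} (R Z : X.IdealSheafData)
    (h : ∀ x ∈ R.support, x ∈ Z.support → stalkIdeal (R ⊔ Z) x = maximalIdeal (X.presheaf.stalk x)) :
    IsReduced (R.comap Z.subschemeι).subscheme := by
  refine NodeInterSch.isReduced_of_stalkIdeal _ fun z hz => ?_
  rw [Scheme.IdealSheafData.support_comap] at hz
  have h1 := h (Z.subschemeι z) hz (subschemeι_mem_support Z z)
  have hker : stalkIdeal Z (Z.subschemeι z) ≤ RingHom.ker (Z.subschemeι.stalkMap z).hom := by
    rw [ker_stalkMap_subschemeι]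
  have hle : (stalkIdeal Z (Z.subschemeι z)).map (Z.subschemeι.stalkMap z).hom = ⊥ := by
    rw [Ideal.map_eq_bot_iff_le_ker]
    exact hker
  have hsurj : Function.Surjective (Z.subschemeι.stalkMap z).hom := stalkMap_subschemeι_surjective Z z
  rw [stalkIdeal_comap]
  have h2 : (stalkIdeal R (Z.subschemeι z)).map (Z.subschemeι.stalkMap z).hom =
      (stalkIdeal (R ⊔ Z) (Z.subschemeι z)).map (Z.subschemeι.stalkMap z).hom := by
    rw [stalkIdeal_sup, Ideal.map_sup, hle, sup_bot_eq]
  rw [h2, h1]
  have hloc : IsLocalHom (Z.subschemeι.stalkMap z).hom := inferInstance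
  apply le_antisymm
  · exact ((IsLocalRing.local_hom_TFAE (Z.subschemeι.stalkMap z).hom).out 0 2).1 hloc
  · intro y hy
    obtain ⟨x, rfl⟩ := hsurj y
    apply Ideal.mem_map_of_mem
    exact (map_mem_nonunits_iff _ x).1 hy

/-- If the supports of two ideals cover a reduced scheme then the product of the ideals vanishes. -/
theorem mul_eq_zero {X : Scheme.{u}} [IsReduced X] {J K : X.IdealSheafData}
    (hcover : (J.support : Set X) ∪ K.support = Set.univ) (U : X.affineOpens) (a b : Γ(X, U.1))
    (ha : a ∈ J.ideal U) (hb : b ∈ K.ideal U) : a * b = 0 := by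
  apply CurvesC.DualIdeals.eq_zero_of_basicOpen
  intro x hx
  rw [Scheme.basicOpen_mul] at hx
  have key : ∀ (I : X.IdealSheafData) (c : Γ(X, U.1)), c ∈ I.ideal U → x ∈ X.basicOpen c → x ∉ I.support := by
    intro I c hc hxc hxI
    have h2 := (Scheme.IdealSheafData.mem_support_iff_of_mem (U := U) (X.basicOpen_le c hxc)).mp hxI
    rw [Scheme.mem_zeroLocus_iff] at h2
    exact h2 c hc hxc
  have hx' : x ∈ (J.support : Set X) ∪ K.support := hcover ▸ Set.mem_univ x
  rcases hx' with h | h
  · exact key J a ha hx.1 h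
  · exact key K b hb hx.2 h

theorem mul_stalk {X : Scheme.{u}} [IsReduced X] {J K : X.IdealSheafData}
    (hcover : (J.support : Set X) ∪ K.support = Set.univ) (x : X) :
    ∀ a ∈ stalkIdeal J x, ∀ b ∈ stalkIdeal K x, a * b = 0 := by
  intro a ha b hb
  obtain ⟨U, hxU⟩ := exists_affine x
  rw [stalkIdeal_eq _ U hxU] at ha hb
  have h1 : a * b ∈ (J.ideal U).map (X.presheaf.germ U.1 x hxU).hom *
      (K.ideal U).map (X.presheaf.germ U.1 x hxU).hom := Ideal.mul_mem_mul ha hb
  rw [← Ideal.map_mul] at h1
  have h2 : J.ideal U * K.ideal U = ⊥ := by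
    rw [eq_bot_iff, Ideal.mul_le]
    intro r hr s hs
    exact mul_eq_zero hcover U r s hr hs
  rw [h2, Ideal.map_bot] at h1
  exact h1

/-- If the supports of two ideals cover a reduced scheme then the intersection of the ideals vanishes. -/
theorem inf_eq_bot {X : Scheme.{u}} [IsReduced X] {J K : X.IdealSheafData}
    (hcover : (J.support : Set X) ∪ K.support = Set.univ) : J ⊓ K = ⊥ := by
  rw [eq_bot_iff]
  intro U a ha
  have h1 := mul_eq_zero hcover U a a ha.1 ha.2
  have h2 : a = 0 := by
    have : IsNilpotent a := ⟨2, by rw [sq]; exact h1⟩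
    exact this.eq_zero
  rw [h2]
  exact Ideal.zero_mem _

/-- A union of one-dimensional irreducible closed subsets of `K` without common component with `J` is not locally
contained in `J`. -/
theorem stalkIdeal_ne_bot {X : Scheme.{u}} [IsLocallyNoetherian X] {J K : X.IdealSheafData}
    (hunion : ∀ x ∈ (K.support : Set X), ∃ Z : X.IdealSheafData, IsIntegral Z.subscheme ∧
      topologicalKrullDim (Z.support : Set X) = 1 ∧ (Z.support : Set X) ⊆ K.support ∧ x ∈ (Z.support : Set X))
    (hno : ∀ Z : X.IdealSheafData, IsIntegral Z.subscheme → topologicalKrullDim (Z.support : Set X) = 1 →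
      ¬ ((Z.support : Set X) ⊆ J.support ∧ (Z.support : Set X) ⊆ K.support)) (x : X) (hx : x ∈ K.support) :
    stalkIdeal J x ≠ ⊥ := by
  intro h
  have h1 := NodeInterSch.notMem_closure_of_stalkIdeal_eq_bot J x h
  obtain ⟨Z, hZi, hZ1, hZK, hxZ⟩ := hunion x hx
  refine hno Z hZi hZ1 ⟨?_, hZK⟩
  have hirr : IsIrreducible (Z.support : Set X) := by
    rw [← Scheme.IdealSheafData.range_subschemeι, ← Set.image_univ]
    exact (IrreducibleSpace.isIrreducible_univ _).image _ Z.subschemeι.continuous.continuousOn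
  have h2 : (Z.support : Set X) ⊆ closure ((Z.support : Set X) ∩ (closure ((J.support : Set X)ᶜ))ᶜ) :=
    subset_closure_inter_of_isPreirreducible_of_isOpen hirr.2 isClosed_closure.isOpen_compl ⟨x, hxZ, h1⟩
  refine h2.trans (closure_minimal ?_ J.support.isClosed)
  intro y hy
  by_contra hcon
  exact hy.2 (subset_closure hcon)

section Nodal

variable (k : Type u) [Field k] {X : Scheme.{u}} [X.Over (Spec (CommRingCat.of k))]
  [IsProper (X ↘ Spec (CommRingCat.of k))]

/-- The scheme theoretic intersection of two curves covering a nodal curve without common component. -/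
theorem comap_eq (hX : Curv2.AtWorstNodal k X) (hdim : topologicalKrullDim X ≤ 1)
    (C₁ C₂ : X.IdealSheafData) [IsReduced C₁.subscheme] [IsReduced C₂.subscheme]
    (hunion₁ : ∀ x ∈ (C₁.support : Set X), ∃ Z : X.IdealSheafData, IsIntegral Z.subscheme ∧
      topologicalKrullDim (Z.support : Set X) = 1 ∧ (Z.support : Set X) ⊆ C₁.support ∧ x ∈ (Z.support : Set X))
    (hunion₂ : ∀ x ∈ (C₂.support : Set X), ∃ Z : X.IdealSheafData, IsIntegral Z.subscheme ∧
      topologicalKrullDim (Z.support : Set X) = 1 ∧ (Z.support : Set X) ⊆ C₂.support ∧ x ∈ (Z.support : Set X))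
    (hcover : (C₁.support : Set X) ∪ C₂.support = Set.univ)
    (hnocommon : ∀ Z : X.IdealSheafData, IsIntegral Z.subscheme → topologicalKrullDim (Z.support : Set X) = 1 →
      ¬ ((Z.support : Set X) ⊆ C₁.support ∧ (Z.support : Set X) ⊆ C₂.support))
    (P : C₁.subscheme.IdealSheafData) [IsReduced P.subscheme]
    (hP : ∀ x : C₁.subscheme, x ∈ (P.support : Set C₁.subscheme) ↔ C₁.subschemeι x ∈ (C₂.support : Set X)) :
    C₂.comap C₁.subschemeι = P := by
  have hN1 : IsLocallyNoetherian X := LocallyOfFiniteType.isLocallyNoetherian (X ↘ (Spec (CommRingCat.of k)))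
  have hred := CurvesC.GenusOne512.isReduced_of_atWorstNodal k X hX
  have hr : IsReduced (C₂.comap C₁.subschemeι).subscheme := by
    refine isReduced_comap C₂ C₁ fun x hx2 hx1 => ?_
    rw [sup_comm]
    exact NodeInterSch.stalkIdeal_sup_eq k hX hdim x (mul_stalk hcover x) hx1 hx2
      (stalkIdeal_ne_bot hunion₂ hnocommon x hx2)
      (stalkIdeal_ne_bot hunion₁ (fun Z h1 h2 h3 => hnocommon Z h1 h2 ⟨h3.2, h3.1⟩) x hx1)
  rw [CurvesC.TailUnion.eq_vanishingIdeal P, CurvesC.TailUnion.eq_vanishingIdeal (C₂.comap C₁.subschemeι)]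
  congr 1
  rw [Scheme.IdealSheafData.support_comap]
  ext1
  ext x
  exact (hP x).symm

end Nodal

end K325.NodeTransv
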