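import Groth.Agent.Curves.K325.GlueCoh
import Groth.Agent.Sga67.RegResol
import Groth.Agent.PerfA.H0AlgClosed
import Groth.Agent.CurvesC.TailMain
import Groth.Agent.CurvesC.GenusOne512
import Groth.Agent.Ega1.ReducedSub
import Groth.Agent.PerfC.PullRestrict

/-!
# Cohomology of locally free modules on trees of curves
-/

set_option autoImplicit false

universe u

open CategoryTheory CategoryTheory.Limits AlgebraicGeometry TopologicalSpace Opposite

namespace K325.Tree

open Groth.Agent

/-- If `H¹(O_C) = 0` then `H¹(I_R) = 0` for connected reduced `R`. -/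
theorem subsingleton_idealMod (k : Type u) [Field k] [IsAlgClosed k] {C : Scheme.{u}}
    [C.Over (Spec (CommRingCat.of k))] [IsProper (C ↘ (Spec (CommRingCat.of k)))]
    (hg : Subsingleton (Coh.HH C (Coh.structureModule C) 1))
    (R : C.IdealSheafData) [IsReduced R.subscheme] [ConnectedSpace R.subscheme] :
    Subsingleton (Coh.HH C (ClSub.idealMod R) 1) := by
  refine Sga67.RegResol.hh_one (VarietyB.RestrSeq.idealSeq_shortExact R) ?_ hg
  intro s
  obtain ⟨c, hc⟩ := (PerfA.H0AlgClosed.bijective_str_of_isAlgClosed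
    (R.subschemeι ≫ (C ↘ (Spec (CommRingCat.of k))))).2 s
  refine ⟨PerfA.CechH0.str (C ↘ (Spec (CommRingCat.of k))) ⊤ c, ?_⟩
  refine Eq.trans ?_ hc
  change R.subschemeι.app ⊤ (PerfA.CechH0.str (C ↘ (Spec (CommRingCat.of k))) ⊤ c) = _
  simp only [PerfA.CechH0.str, RingHom.comp_apply]
  rw [← Scheme.Hom.appLE_eq_app]
  have h1 := Scheme.Hom.appLE_comp_appLE R.subschemeι (C ↘ (Spec (CommRingCat.of k))) ⊤ ⊤ ⊤
    (PerfA.CechH0.le_preimage_top (C ↘ (Spec (CommRingCat.of k))) ⊤) le_rfl
  exact congr($(h1) _)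

theorem connectedSpace_subscheme {C : Scheme.{u}} (Y : Closeds C) (hY : _root_.IsConnected (Y : Set C)) :
    ConnectedSpace (Scheme.IdealSheafData.vanishingIdeal Y).subscheme := by
  have hemb := (Scheme.IdealSheafData.vanishingIdeal Y).subschemeι.isClosedEmbedding
  have h1 : Set.range (Scheme.IdealSheafData.vanishingIdeal Y).subschemeι = Y := by
    rw [Scheme.IdealSheafData.range_subschemeι]
    exact Scheme.IdealSheafData.coe_support_vanishingIdeal _
  have h2 : ConnectedSpace (Set.range (Scheme.IdealSheafData.vanishingIdeal Y).subschemeι) := by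
    rw [h1]
    exact isConnected_iff_connectedSpace.1 hY
  exact hemb.isEmbedding.toHomeomorph.symm.surjective.connectedSpace
    hemb.isEmbedding.toHomeomorph.symm.continuous

theorem main (k : Type u) [Field k] [IsAlgClosed k] {C : Scheme.{u}}
    [C.Over (Spec (CommRingCat.of k))] [IsProper (C ↘ (Spec (CommRingCat.of k)))] [IsReduced C] [ConnectedSpace C]
    (hdim : topologicalKrullDim C = 1)
    (hg : Subsingleton (Coh.HH C (Coh.structureModule C) 1)) {F : C.Modules} (hF : FlatMod.IsFinLocFree F)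
    (I₀ : Set (Set C))
    (hgg : ∀ (Z : Set C) (hZ : Z ∈ irreducibleComponents (C : Type u)), Z ∉ I₀ →
      Curv2.IsGloballyGenerated ((Scheme.Modules.pullback (CurvesC.TailGeom.compIdeal Z hZ).subschemeι).obj F))
    (n : ℕ) : ∀ (I : Set (Set C)) (_ : I ⊆ irreducibleComponents (C : Type u)) (_ : I₀ ⊆ I)
      (_ : _root_.IsConnected (⋃₀ I)) (_ : (irreducibleComponents (C : Type u) \ I).ncard = n)
      (hcl : IsClosed (⋃₀ I)), Subsingleton (Coh.HH C (CohB1.tensorMod F
        (ClSub.idealMod (Scheme.IdealSheafData.vanishingIdeal ⟨⋃₀ I, hcl⟩))) 1) := by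
  have hN := CurvesC.CurveCoh.noetherianSpace k C
  have hN1 : IsLocallyNoetherian C := LocallyOfFiniteType.isLocallyNoetherian (C ↘ (Spec (CommRingCat.of k)))
  have hCS : CompactSpace C := QuasiCompact.compactSpace_of_compactSpace (C ↘ (Spec (CommRingCat.of k)))
  have hN2 : IsNoetherian C := { }
  have hfin := NoetherianSpace.finite_irreducibleComponents (α := (C : Type u))
  have hv : ∀ (M : C.Modules), Subsingleton (Coh.HH C M 2) := fun M =>
    S0458.result 1 hdim.le (Coh.toAb M) 2 (by norm_num)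
  induction n with
  | zero =>
    intro I hI hI₀ hc hcard hcl
    have h1 : irreducibleComponents (C : Type u) \ I = ∅ := (Set.ncard_eq_zero (hfin.subset Set.sdiff_subset)).1 hcard
    have h2 : ⋃₀ I = Set.univ := by
      have : irreducibleComponents (C : Type u) ⊆ I := Set.sdiff_eq_empty.1 h1
      rw [Set.Subset.antisymm hI this, sUnion_irreducibleComponents]
    have h3 : (⟨⋃₀ I, hcl⟩ : Closeds C) = ⊤ := by
      ext1
      exact h2
    rw [h3, Scheme.IdealSheafData.vanishingIdeal_top, Scheme.nilradical_eq_bot]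
    exact K325.GlueCoh.subsingleton_bot F 1
  | succ n ih =>
    intro I hI hI₀ hc hcard hcl
    have hfinI : I.Finite := hfin.subset hI
    -- a component outside meeting the union
    obtain ⟨Z, hZ, hZI, x, hxZ, hxI⟩ : ∃ Z ∈ irreducibleComponents (C : Type u), Z ∉ I ∧
        ∃ x, x ∈ Z ∧ x ∈ ⋃₀ I := by
      by_contra hcon
      push Not at hcon
      have hcl2 : IsClosed (⋃₀ (irreducibleComponents (C : Type u) \ I)) := by
        rw [Set.sUnion_eq_biUnion]
        exact hfin.sdiff.isClosed_biUnion fun W hW ↦ isClosed_of_mem_irreducibleComponents W hW.1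
      have hcompl : (⋃₀ I)ᶜ = ⋃₀ (irreducibleComponents (C : Type u) \ I) := by
        apply Set.Subset.antisymm
        · intro y hy
          have h3 : y ∈ ⋃₀ irreducibleComponents (C : Type u) := by
            rw [sUnion_irreducibleComponents]; trivial
          obtain ⟨W, hW1, hyW⟩ := h3
          exact ⟨W, ⟨hW1, fun hWI => hy ⟨W, hWI, hyW⟩⟩, hyW⟩
        · rintro y ⟨W, hW, hyW⟩ hy
          exact hcon W hW.1 hW.2 y hyW hy
      have hclopen : IsClopen (⋃₀ I) := ⟨hcl, by rw [← isClosed_compl_iff, hcompl]; exact hcl2⟩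
      have huniv := hclopen.eq_univ hc.1
      have hne : (irreducibleComponents (C : Type u) \ I).Nonempty := by
        rw [← Set.ncard_pos hfin.sdiff, hcard]
        exact Nat.succ_pos n
      obtain ⟨W, hW⟩ := hne
      obtain ⟨y, hy⟩ := hW.1.1.1
      exact hcon W hW.1 hW.2 y hy (huniv ▸ Set.mem_univ y)
    have hclZ : IsClosed Z := isClosed_of_mem_irreducibleComponents Z hZ
    have hU : ⋃₀ (insert Z I) = Z ∪ ⋃₀ I := Set.sUnion_insert Z I
    have hclU : IsClosed (⋃₀ (insert Z I)) := by rw [hU]; exact hclZ.union hcl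
    have hcU : _root_.IsConnected (⋃₀ (insert Z I)) := by
      rw [hU]
      exact hZ.1.isConnected.union ⟨x, hxZ, hxI⟩ hc
    have hcardU : (irreducibleComponents (C : Type u) \ insert Z I).ncard = n := by
      have h1 : irreducibleComponents (C : Type u) \ insert Z I = (irreducibleComponents (C : Type u) \ I) \ {Z} := by
        ext W
        simp only [Set.mem_sdiff, Set.mem_insert_iff, Set.mem_singleton_iff, not_or]
        tauto
      rw [h1, Set.ncard_sdiff_singleton_of_mem (show Z ∈ irreducibleComponents (C : Type u) \ I from ⟨hZ, hZI⟩), hcard]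
      rfl
    have hih := ih (insert Z I) (Set.insert_subset hZ hI) (hI₀.trans (Set.subset_insert Z I)) hcU hcardU hclU
    have hred : IsReduced (Scheme.IdealSheafData.vanishingIdeal (⟨⋃₀ I, hcl⟩ : Closeds C)).subscheme :=
      Ega1.ReducedSub.isReduced_subscheme_vanishingIdeal _
    have hconn := connectedSpace_subscheme (⟨⋃₀ I, hcl⟩ : Closeds C) hc
    have heq : Scheme.IdealSheafData.vanishingIdeal (⟨⋃₀ (insert Z I), hclU⟩ : Closeds C) =
        Scheme.IdealSheafData.vanishingIdeal (⟨⋃₀ I, hcl⟩ : Closeds C) ⊓ CurvesC.TailGeom.compIdeal Z hZ := by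
      rw [← Scheme.IdealSheafData.vanishingIdeal_sup]
      congr 1
      ext1
      change ⋃₀ (insert Z I) = ⋃₀ I ∪ Z
      rw [hU, Set.union_comm]
    rw [heq] at hih
    refine K325.GlueCoh.subsingleton_of_inf _ (CurvesC.TailGeom.compIdeal Z hZ) hF 1 hih ?_
    have hPZ : IsProper ((CurvesC.TailGeom.compIdeal Z hZ).subschemeι ≫ (C ↘ (Spec (CommRingCat.of k)))) :=
      inferInstance
    have hCSZ : CompactSpace (CurvesC.TailGeom.compIdeal Z hZ).subscheme :=
      QuasiCompact.compactSpace_of_compactSpace ((CurvesC.TailGeom.compIdeal Z hZ).subschemeι ≫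
        (C ↘ (Spec (CommRingCat.of k))))
    have hNZ : NoetherianSpace (CurvesC.TailGeom.compIdeal Z hZ).subscheme :=
      (CurvesC.TailGeom.compIdeal Z hZ).subschemeι.isEmbedding.isInducing.noetherianSpace
    have hdZ : topologicalKrullDim (CurvesC.TailGeom.compIdeal Z hZ).subscheme ≤ 1 :=
      ((CurvesC.TailGeom.compIdeal Z hZ).subschemeι.isEmbedding.isInducing.topologicalKrullDim_le).trans hdim.le
    refine K325.GlueCoh.subsingleton_tensor_of_gg ?_ (hgg Z hZ fun h => hZI (hI₀ h)) _ 1 ?_ fun M =>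
      S0458.result 1 hdZ (Coh.toAb M) 2 (by norm_num)
    · exact PerfA.CohSerre.isCoh_of_isFinLocFree (PerfC.PullRestrict.isFinLocFree_pullback _ hF)
    · exact K325.GlueCoh.subsingleton_comap _ _ 1 (subsingleton_idealMod k hg _) (hv _)

end K325.Tree
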