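import Mathlib.RingTheory.DiscreteValuationRing.Basic
import Mathlib.RingTheory.Length
import Mathlib.LinearAlgebra.FiniteDimensional.Lemmas
import Mathlib.Data.Set.Card

/-!
# Orders of vanishing of a finite-dimensional space of elements of a discrete valuation ring
-/

set_option autoImplicit false

open IsLocalRing

namespace K325.VanOrd

variable {k A V : Type*} [Field k] [CommRing A] [IsDomain A] [IsDiscreteValuationRing A] [Algebra k A]
  [AddCommGroup V] [Module k V]

/-- The order of vanishing, as the length of `A/(a)`. -/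
noncomputable def len (a : A) : ℕ∞ := Module.length A (A ⧸ Ideal.span {a})

theorem exists_len_eq {a : A} (ha : a ≠ 0) :
    ∃ n : ℕ, Ideal.span {a} = maximalIdeal A ^ n ∧ len a = n := by
  obtain ⟨ϖ, hϖ⟩ := IsDiscreteValuationRing.exists_irreducible A
  obtain ⟨n, hn⟩ := IsDiscreteValuationRing.associated_pow_irreducible ha hϖ
  have h1 : Ideal.span {a} = maximalIdeal A ^ n := by
    rw [hϖ.maximalIdeal_eq, Ideal.span_singleton_pow, Ideal.span_singleton_eq_span_singleton]
    exact hn
  refine ⟨n, h1, ?_⟩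
  rw [len, h1, IsDiscreteValuationRing.length_quotient_pow_maximalIdeal]

theorem mem_pow_iff {a : A} (ha : a ≠ 0) (n : ℕ) : a ∈ maximalIdeal A ^ n ↔ (n : ℕ∞) ≤ len a := by
  obtain ⟨j, hj, hl⟩ := exists_len_eq ha
  rw [hl, Nat.cast_le]
  constructor
  · intro h
    by_contra hcon
    push Not at hcon
    have h1 : maximalIdeal A ^ j ≤ maximalIdeal A ^ n := by
      rw [← hj, Ideal.span_singleton_le_iff_mem]
      exact h
    have h2 : maximalIdeal A ^ n = maximalIdeal A ^ j := le_antisymm (Ideal.pow_le_pow_right hcon.le) h1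
    have h3 := IsDiscreteValuationRing.length_quotient_pow_maximalIdeal (R := A) n
    rw [h2, IsDiscreteValuationRing.length_quotient_pow_maximalIdeal] at h3
    exact hcon.ne (by exact_mod_cast h3)
  · intro h
    have h1 : a ∈ Ideal.span {a} := Ideal.mem_span_singleton_self a
    rw [hj] at h1
    exact Ideal.pow_le_pow_right h h1

theorem ncard_image (g : V →ₗ[k] A) (hg : Function.Injective g)
    (hres : ∀ a : A, ∃ c : k, a - algebraMap k A c ∈ maximalIdeal A) (n : ℕ) :
    ∀ W : Submodule k V, Module.Finite k W → Module.finrank k W = n →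
      ((fun v => len (g v)) '' {v | v ∈ W ∧ v ≠ 0}).ncard = n ∧
      ((fun v => len (g v)) '' {v | v ∈ W ∧ v ≠ 0}).Finite := by
  have hg0 : ∀ v : V, v ≠ 0 → g v ≠ 0 := fun v hv h => hv (hg (by rw [h, map_zero]))
  induction n with
  | zero =>
    intro W _ hW
    have h0 : W = ⊥ := by
      rw [← Submodule.finrank_eq_zero (R := k)]
      exact hW
    subst h0
    have h1 : {v : V | v ∈ (⊥ : Submodule k V) ∧ v ≠ 0} = ∅ := by
      ext v
      simp
    rw [h1]
    simp
  | succ n ih =>
    intro W hWf hW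
    have hne : W ≠ ⊥ := by
      rintro rfl
      rw [finrank_bot] at hW
      omega
    obtain ⟨v₁, hv₁, hv₁0⟩ := Submodule.exists_mem_ne_zero_of_ne_bot hne
    -- the minimal order
    let S : Set ℕ := {m | ∃ v ∈ W, v ≠ 0 ∧ len (g v) = m}
    have hS : S.Nonempty := by
      obtain ⟨m, -, hm⟩ := exists_len_eq (hg0 v₁ hv₁0)
      exact ⟨m, v₁, hv₁, hv₁0, hm⟩
    obtain ⟨v₀, hv₀, hv₀0, hm⟩ := Nat.sInf_mem hS
    set m := sInf S with hmdef
    have hmin : ∀ v ∈ W, v ≠ 0 → (m : ℕ∞) ≤ len (g v) := by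
      intro v hv hv0
      obtain ⟨j, -, hj⟩ := exists_len_eq (hg0 v hv0)
      rw [hj, Nat.cast_le]
      exact Nat.sInf_le ⟨v, hv, hv0, hj⟩
    let W' : Submodule k V := W ⊓ Submodule.comap g ((maximalIdeal A ^ (m + 1)).restrictScalars k)
    have hW' : ∀ v, v ∈ W' ↔ v ∈ W ∧ g v ∈ maximalIdeal A ^ (m + 1) := fun v => Iff.rfl
    have hv₀' : v₀ ∉ W' := by
      intro h
      have h1 := (mem_pow_iff (hg0 v₀ hv₀0) (m + 1)).1 ((hW' v₀).1 h).2
      rw [hm, Nat.cast_le] at h1
      omega
    have hdec : ∀ v ∈ W, ∃ c : k, v - c • v₀ ∈ W' := by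
      intro v hv
      have h1 : g v ∈ Ideal.span {g v₀} := by
        obtain ⟨j, hj, hjl⟩ := exists_len_eq (hg0 v₀ hv₀0)
        have hjm : j = m := by
          rw [hm] at hjl
          exact_mod_cast hjl.symm
        rw [hj, hjm]
        by_cases hv0 : v = 0
        · rw [hv0, map_zero]
          exact Submodule.zero_mem _
        · exact (mem_pow_iff (hg0 v hv0) m).2 (hmin v hv hv0)
      obtain ⟨b, hb⟩ := Ideal.mem_span_singleton'.1 h1
      obtain ⟨c, hc⟩ := hres b
      refine ⟨c, (hW' _).2 ⟨W.sub_mem hv (W.smul_mem c hv₀), ?_⟩⟩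
      rw [map_sub, map_smul, ← hb, Algebra.smul_def, ← sub_mul, pow_succ']
      exact Ideal.mul_mem_mul hc ((mem_pow_iff (hg0 v₀ hv₀0) m).2 hm.ge)
    have hsup : W' ⊔ Submodule.span k {v₀} = W := by
      apply le_antisymm
      · refine sup_le inf_le_left ?_
        rw [Submodule.span_singleton_le_iff_mem]
        exact hv₀
      · intro v hv
        obtain ⟨c, hc⟩ := hdec v hv
        have : v = (v - c • v₀) + c • v₀ := by abel
        rw [this]
        exact Submodule.add_mem_sup hc (Submodule.smul_mem _ _ (Submodule.mem_span_singleton_self v₀))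
    have hinf : W' ⊓ Submodule.span k {v₀} = ⊥ := by
      rw [eq_bot_iff]
      rintro x ⟨hx1, hx2⟩
      obtain ⟨c, rfl⟩ := Submodule.mem_span_singleton.1 hx2
      by_cases hc : c = 0
      · simp [hc]
      · exfalso
        apply hv₀'
        have := W'.smul_mem c⁻¹ hx1
        rwa [smul_smul, inv_mul_cancel₀ hc, one_smul] at this
    have hfW' : Module.Finite k W' := Module.Finite.of_injective (Submodule.inclusion (inf_le_left : W' ≤ W))
      (Submodule.inclusion_injective _)
    have hfr : Module.finrank k W' = n := by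
      have h1 := Submodule.finrank_sup_add_finrank_inf_eq W' (Submodule.span k {v₀})
      rw [hsup, hinf, finrank_bot, finrank_span_singleton hv₀0, hW] at h1
      omega
    obtain ⟨ih1, ih2⟩ := ih W' hfW' hfr
    have himg : (fun v => len (g v)) '' {v | v ∈ W ∧ v ≠ 0} =
        insert (m : ℕ∞) ((fun v => len (g v)) '' {v | v ∈ W' ∧ v ≠ 0}) := by
      ext x
      constructor
      · rintro ⟨v, ⟨hv, hv0⟩, rfl⟩
        by_cases h : g v ∈ maximalIdeal A ^ (m + 1)
        · exact Or.inr ⟨v, ⟨(hW' v).2 ⟨hv, h⟩, hv0⟩, rfl⟩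
        · left
          obtain ⟨j, -, hj⟩ := exists_len_eq (hg0 v hv0)
          have h1 := hmin v hv hv0
          rw [mem_pow_iff (hg0 v hv0)] at h
          change len (g v) = m
          rw [hj, Nat.cast_le] at h1 h
          rw [hj, Nat.cast_inj]
          omega
      · rintro (rfl | ⟨v, ⟨hv, hv0⟩, rfl⟩)
        · exact ⟨v₀, ⟨hv₀, hv₀0⟩, hm⟩
        · exact ⟨v, ⟨((hW' v).1 hv).1, hv0⟩, rfl⟩
    have hnot : (m : ℕ∞) ∉ (fun v => len (g v)) '' {v | v ∈ W' ∧ v ≠ 0} := by
      rintro ⟨v, ⟨hv, hv0⟩, h⟩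
      have h1 := (mem_pow_iff (hg0 v hv0) (m + 1)).1 ((hW' v).1 hv).2
      change len (g v) = m at h
      rw [h, Nat.cast_le] at h1
      omega
    rw [himg]
    exact ⟨by rw [Set.ncard_insert_of_notMem hnot ih2, ih1], ih2.insert _⟩

end K325.VanOrd
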